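import Mathlib.Algebra.CharP.Lemmas
import Mathlib.RepresentationTheory.Basic
import Mathlib.FieldTheory.Finite.Basic
import Mathlib.Data.ZMod.Basic

/-!
# Operator identities for quadratic elements

`p`-th power maps on commuting elements of coprime order of an endomorphism ring, in
characteristic `p`.
-/

namespace CfsgLib.LocEven.PGV

section Ring

variable {E : Type*} [Ring E] {p : ℕ} [hp : Fact p.Prime]

theorem add_pow_p (hp0 : (p : E) = 0) {x y : E} (h : Commute x y) (n : ℕ) :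
    (x + y) ^ p ^ n = x ^ p ^ n + y ^ p ^ n := by
  obtain ⟨r, hr⟩ := h.exists_add_pow_prime_pow_eq hp.out n
  simp [hr, hp0]

theorem sub_pow_p (hp0 : (p : E) = 0) {x y : E} (h : Commute x y) (n : ℕ) :
    (x - y) ^ p ^ n = x ^ p ^ n - y ^ p ^ n := by
  have h1 := add_pow_p (x := x - y) (y := y) hp0 (h.sub_left (Commute.refl y)) n
  rw [sub_add_cancel] at h1
  exact eq_sub_of_add_eq h1.symm

/-- A positive power of `p` congruent to `1` modulo a number prime to `p`. -/
theorem exists_ppow_modEq_one (m : ℕ) (hm : m.Coprime p) :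
    ∃ k, 0 < k ∧ p ^ k ≡ 1 [MOD m] := by
  refine ⟨Nat.totient m, Nat.totient_pos.mpr (Nat.pos_of_ne_zero ?_), Nat.ModEq.pow_totient hm.symm⟩
  rintro rfl
  exact hp.out.one_lt.ne' (Nat.coprime_zero_left p |>.mp hm)

theorem pow_eq_self_of_modEq {u : E} {m k : ℕ} (hu : u ^ m = 1) (hk : p ^ k ≡ 1 [MOD m]) :
    u ^ p ^ k = u := by
  rw [← Nat.mod_add_div (p ^ k) m, hk, pow_add, pow_mul, hu, one_pow, mul_one]
  conv_rhs => rw [← pow_one u, ← Nat.mod_add_div 1 m, pow_add, pow_mul, hu, one_pow, mul_one]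

theorem eq_zero_of_sq_of_ppow {f : E} (hsq : f * f = 0) {k : ℕ} (hk : 0 < k)
    (hf : f ^ p ^ k = f) : f = 0 := by
  have h2 : 2 ≤ p ^ k := le_trans hp.out.two_le (Nat.le_self_pow hk.ne' p)
  obtain ⟨j, hj⟩ := Nat.exists_eq_add_of_le h2
  rw [← hf, hj, pow_add, pow_two, hsq, zero_mul]

theorem sub_eq_zero_of_sq (hp0 : (p : E) = 0) {u v : E} {m : ℕ} (hm : m.Coprime p)
    (hu : u ^ m = 1) (hv : v ^ m = 1) (hc : Commute u v) (hsq : (u - v) * (u - v) = 0) :
    u = v := by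
  obtain ⟨k, hk, hk'⟩ := exists_ppow_modEq_one (p := p) m hm
  refine sub_eq_zero.mp (eq_zero_of_sq_of_ppow (p := p) hsq hk ?_)
  rw [sub_pow_p hp0 hc k, pow_eq_self_of_modEq hu hk', pow_eq_self_of_modEq hv hk']

theorem add_four_eq_zero_of_sq (hp0 : (p : E) = 0) {u v w z : E} {m : ℕ} (hm : m.Coprime p)
    (hu : u ^ m = 1) (hv : v ^ m = 1) (hw : w ^ m = 1) (hz : z ^ m = 1)
    (huv : Commute u v) (huw : Commute u w) (huz : Commute u z) (hvw : Commute v w)
    (hvz : Commute v z) (hwz : Commute w z)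
    (hsq : (u + v + w + z) * (u + v + w + z) = 0) : u + v + w + z = 0 := by
  obtain ⟨k, hk, hk'⟩ := exists_ppow_modEq_one (p := p) m hm
  refine eq_zero_of_sq_of_ppow (p := p) hsq hk ?_
  rw [add_pow_p hp0 ((huz.add_left hvz).add_left hwz) k, add_pow_p hp0 (huw.add_left hvw) k,
    add_pow_p hp0 huv k, pow_eq_self_of_modEq hu hk', pow_eq_self_of_modEq hv hk',
    pow_eq_self_of_modEq hw hk', pow_eq_self_of_modEq hz hk']

theorem add_sub_eq_zero_of_sq (hp0 : (p : E) = 0) {u v w : E} {m : ℕ} (hm : m.Coprime p)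
    (hu : u ^ m = 1) (hv : v ^ m = 1) (hw : w ^ m = 1)
    (huv : Commute u v) (huw : Commute u w) (hvw : Commute v w)
    (hsq : (u - v - v + w) * (u - v - v + w) = 0) : u - v - v + w = 0 := by
  obtain ⟨k, hk, hk'⟩ := exists_ppow_modEq_one (p := p) m hm
  refine eq_zero_of_sq_of_ppow (p := p) hsq hk ?_
  rw [add_pow_p hp0 ((huw.sub_left hvw).sub_left hvw) k,
    sub_pow_p hp0 (huv.sub_left (Commute.refl v)) k, sub_pow_p hp0 huv k,
    pow_eq_self_of_modEq hu hk', pow_eq_self_of_modEq hv hk', pow_eq_self_of_modEq hw hk']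

/-- If `(u - 1) ^ 3 = 0` and `u` has order prime to `p`, then `u = 1`. -/
theorem eq_one_of_sub_one_pow (hp0 : (p : E) = 0) {u : E} {m n : ℕ} (hm : m.Coprime p)
    (hu : u ^ m = 1) (hn : (u - 1) ^ n = 0) : u = 1 := by
  obtain ⟨k, hk, hk'⟩ := exists_ppow_modEq_one (p := p) m hm
  have hstep : ∀ j : ℕ, (u - 1) ^ (p ^ k) ^ j = u - 1 := by
    intro j
    induction j with
    | zero => rw [pow_zero, pow_one]
    | succ j ih =>
      rw [pow_succ, pow_mul, ih, sub_pow_p hp0 (Commute.one_right u) k, one_pow,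
        pow_eq_self_of_modEq hu hk']
  have hle : n ≤ (p ^ k) ^ n := (Nat.lt_pow_self (Nat.one_lt_pow hk.ne' hp.out.one_lt)).le
  refine sub_eq_zero.mp ?_
  rw [← hstep n]
  exact pow_eq_zero_of_le hle hn

end Ring

theorem natCast_end_eq_zero (p : ℕ) {V : Type*} [AddCommGroup V] [Module (ZMod p) V] :
    (p : Module.End (ZMod p) V) = 0 := by
  ext v
  rw [Module.End.natCast_apply, ← Nat.cast_smul_eq_nsmul (ZMod p), ZMod.natCast_self, zero_smul]
  rfl

end CfsgLib.LocEven.PGV
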