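import Cfsg.Agent.Lib.LocEven.PGV.Moving
import Cfsg.Agent.Lib.Invol.BaerSuzuki
import Cfsg.Agent.Lib.Solvable.Basic

/-!
# The `P(G,V)` theorem: a best offender normalises every component
-/

namespace CfsgLib.LocEven.PGV

open scoped commutatorElement

variable {G V : Type*} [Group G] [Finite G] [AddCommGroup V] [Finite V] {p : ℕ} [hp : Fact p.Prime]
  [Module (ZMod p) V]

/-- A would-be minimal counterexample. -/
structure Bad (ρ : Representation (ZMod p) G V) (A K : Subgroup G) : Prop extends Ctx ρ A K where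
  best : IsBest ρ A
  minimal : ∀ W : Submodule (ZMod p) V, (∀ a ∈ A, ∀ w ∈ W, ρ a w ∈ W) →
    (∀ k ∈ K, ∀ w ∈ W, ρ k w ∈ W) → (∃ k ∈ K, ∃ w ∈ W, ρ k w ≠ w) → W = ⊤
  notNorm : ¬ A ≤ Subgroup.normalizer (K : Set G)

variable {ρ : Representation (ZMod p) G V} {A K : Subgroup G}

omit [Finite G] in
theorem card_ker_mul_card_range (f : Module.End (ZMod p) V) :
    Nat.card (LinearMap.ker f) * Nat.card (LinearMap.range f) = Nat.card V := by
  rw [Submodule.card_eq_card_quotient_mul_card (LinearMap.ker f),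
    Nat.card_congr f.quotKerEquivRange.toEquiv, mul_comm]

omit [Finite G] in
theorem card_sup_le_mul (P Q : Submodule (ZMod p) V) :
    Nat.card ↥(P ⊔ Q) ≤ Nat.card P * Nat.card Q := by
  rw [← Nat.card_prod]
  refine Nat.card_le_card_of_surjective
    (fun z => (⟨(z.1 : V) + z.2, Submodule.add_mem_sup z.1.2 z.2.2⟩ : ↥(P ⊔ Q))) ?_
  rintro ⟨v, hv⟩
  obtain ⟨a, ha, b, hb, rfl⟩ := Submodule.mem_sup.mp hv
  exact ⟨(⟨a, ha⟩, ⟨b, hb⟩), rfl⟩

omit [Finite V] [AddCommGroup V] [Module (ZMod p) V] hp in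
theorem card_le_of_fibres {X : Type*} [Finite X] (B C : Subgroup G) (f : B → X)
    (hf : ∀ c c', f c = f c' → (c : G)⁻¹ * c' ∈ C) : Nat.card B ≤ Nat.card C * Nat.card X := by
  classical
  let r : X → B := fun v => if h : ∃ c, f c = v then h.choose else 1
  have hr : ∀ c, f (r (f c)) = f c := fun c => by
    simp only [r, dif_pos (show ∃ c', f c' = f c from ⟨c, rfl⟩)]
    exact Exists.choose_spec (show ∃ c', f c' = f c from ⟨c, rfl⟩)
  rw [mul_comm, ← Nat.card_prod]
  refine Nat.card_le_card_of_injective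
    (fun c => ((f c, ⟨_, hf c (r (f c)) (hr c).symm⟩) : X × C)) ?_
  intro c c' h
  simp only [Prod.mk.injEq, Subtype.mk.injEq] at h
  obtain ⟨h1, h2⟩ := h
  rw [h1, mul_left_inj, inv_inj] at h2
  exact Subtype.ext h2

omit [Finite G] [Finite V] in
theorem end_two_eq_zero (hp2 : p = 2) : (2 : Module.End (ZMod p) V) = 0 := by
  have := cast_p_eq_zero (p := p) (V := V)
  have hcast : (p : Module.End (ZMod p) V) = ((2 : ℕ) : Module.End (ZMod p) V) := congrArg _ hp2
  rw [hcast] at this
  exact_mod_cast this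

omit [Finite G] [Finite V] in
theorem neg_eq_self_of_two (hp2 : p = 2) (v : V) : -v = v := by
  have h := LinearMap.congr_fun (end_two_eq_zero (V := V) hp2) v
  rw [← one_add_one_eq_two] at h
  simp at h
  exact neg_eq_of_add_eq_zero_left h

namespace Bad

variable (hB : Bad ρ A K)
include hB

omit [Finite V] in
theorem pow_p_nn {a : G} (ha : a ∈ A) : nn ρ a ^ p = 0 := by
  have h := sub_pow_p (p := p) (natCast_end_eq_zero p (V := V)) (Commute.one_right (ρ a)) 1
  rw [pow_one, one_pow, ← map_pow, hB.pow a ha, map_one, sub_self] at h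
  exact h

omit [Finite V] in
theorem exists_moving : ∃ a ∈ A, a ∉ Subgroup.normalizer (K : Set G) := by
  have := hB.notNorm
  simpa [SetLike.le_def] using this

omit [Finite V] in
/-- `ker (ρ - 1)` on `A`, inside the normalizer of `K`. -/
theorem exists_kernel : ∃ C : Subgroup G,
    (∀ c, c ∈ C ↔ c ∈ A ∧ ρ c = 1) ∧ C ≤ A ⊓ Subgroup.normalizer (K : Set G) := by
  refine ⟨A ⊓ ρ.ker, fun c => by simp [MonoidHom.mem_ker], fun c hc => ?_⟩
  exact ⟨hc.1, hB.mem_normalizer_of_map_eq_one hc.1 hc.2⟩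

theorem card_bound {C : Subgroup G} (hC : ∀ c, c ∈ C ↔ c ∈ A ∧ ρ c = 1) :
    Nat.card C * Nat.card V ≤ Nat.card A * Nat.card (fix ρ A) := by
  refine le_trans (le_of_eq ?_) (hB.best C fun c hc => ((hC c).mp hc).1)
  congr 1
  refine (Nat.card_congr (Equiv.subtypeUnivEquiv fun v => ?_)).symm
  intro c hc
  rw [((hC c).mp hc).2, Module.End.one_apply]

/-- An element of `star ∩ N(K)` centralising the image of `K` acts trivially. -/
theorem exists_commutator {b : G} (hb : b ∈ star ρ A) (hbn : b ∈ Subgroup.normalizer (K : Set G))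
    (hb1 : ρ b ≠ 1) : ∃ y ∈ K, ρ ⁅b, y⁆ ≠ 1 := by
  by_contra hcon
  push Not at hcon
  have hbK : ∀ y ∈ K, Commute (ρ b) (ρ y) := by
    intro y hy
    have h := hcon y hy
    rw [commutatorElement_def] at h
    show ρ b * ρ y = ρ y * ρ b
    rw [← map_mul, ← map_mul, show b * y = (b * y * b⁻¹ * y⁻¹) * (y * b) by group, map_mul, h,
      one_mul]
  obtain ⟨a, ha, hn⟩ := hB.exists_moving
  set U := LinearMap.ker (nn ρ b) with hU
  have hUA : ∀ c ∈ A, ∀ w ∈ U, ρ c w ∈ U := by
    intro c hc w hw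
    rw [hU, LinearMap.mem_ker] at hw ⊢
    have h1 : Commute (nn ρ b) (ρ c) :=
      (((hB.comm b hb.1 c hc).map ρ)).sub_left (Commute.one_left _)
    rw [← Module.End.mul_apply, h1.eq, Module.End.mul_apply, hw, map_zero]
  have hUK : ∀ k ∈ K, ∀ w ∈ U, ρ k w ∈ U := by
    intro k hk w hw
    rw [hU, LinearMap.mem_ker] at hw ⊢
    rw [← Module.End.mul_apply, ((hbK k hk).sub_left (Commute.one_left _)).eq,
      Module.End.mul_apply, hw, map_zero]
  have hUne : U ≠ ⊤ := by
    intro h
    refine hb1 (LinearMap.ext fun v => ?_)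
    have hv : v ∈ U := h ▸ Submodule.mem_top
    rw [hU, LinearMap.mem_ker, nn_apply, sub_eq_zero] at hv
    exact hv
  have hKU : ∀ k ∈ K, ∀ w ∈ U, ρ k w = w := by
    by_contra hne
    push Not at hne
    exact hUne (hB.minimal U hUA hUK hne)
  -- `a` and `a⁻¹` are trivial modulo `U`
  have haU : ∀ c ∈ A, ∀ v, ρ c v - v ∈ U := by
    intro c hc v
    rw [hU, LinearMap.mem_ker, ← nn_apply, ← Module.End.mul_apply, hb.2 c hc, LinearMap.zero_apply]
  have hconj : ∀ y ∈ K, ∀ v, ρ (a * y * a⁻¹) v - ρ y v ∈ U := by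
    intro y hy v
    rw [map_conj_eq, Module.End.mul_apply, Module.End.mul_apply]
    have h1 := haU a⁻¹ (inv_mem ha) v
    have h2 : ρ a (ρ y (ρ a⁻¹ v)) - ρ y v =
        (ρ a (ρ y (ρ a⁻¹ v)) - ρ y (ρ a⁻¹ v)) + ρ y (ρ a⁻¹ v - v) := by
      rw [map_sub]; abel
    rw [h2]
    exact add_mem (haU a ha _) (hUK y hy _ h1)
  let S : Subgroup G :=
    { carrier := {g | g ∈ K ∧ ∀ v, ρ g v - v ∈ U}
      one_mem' := ⟨one_mem K, fun v => by simp⟩
      mul_mem' := fun {g h} hg hh => ⟨mul_mem hg.1 hh.1, fun v => by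
        rw [map_mul, Module.End.mul_apply,
          show ρ g (ρ h v) - v = (ρ g (ρ h v) - ρ h v) + (ρ h v - v) by abel]
        exact add_mem (hg.2 _) (hh.2 v)⟩
      inv_mem' := fun {g} hg => ⟨inv_mem hg.1, fun v => by
        have := hg.2 (ρ g⁻¹ v)
        rw [← Module.End.mul_apply, ← map_mul, mul_inv_cancel, map_one, Module.End.one_apply] at this
        simpa using neg_mem this⟩ }
  have hxy : ∀ x ∈ K, ∀ y ∈ K, ∀ v, ρ (x * y) v - ρ (y * x) v ∈ U := by
    intro x hx y hy v
    have hc := (hB.conj a ha hn x hx y hy).map ρ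
    have h1 : ρ (x * y) v - ρ (y * x) v =
        ρ x (ρ y v - ρ (a * y * a⁻¹) v) + (ρ (a * y * a⁻¹) (ρ x v) - ρ y (ρ x v)) := by
      rw [map_sub, ← Module.End.mul_apply (ρ x) (ρ (a * y * a⁻¹)), hc.eq, map_mul, map_mul]
      simp only [Module.End.mul_apply]
      abel
    rw [h1]
    exact add_mem (hUK x hx _ (by simpa using neg_mem (hconj y hy v))) (hconj y hy _)
  have hKS : K ≤ S := by
    haveI := hB.qs.1
    have hc : commutator K = ⊤ := Group.IsPerfect.commutator_eq_top
    have hle : commutator K ≤ S.subgroupOf K := by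
      rw [commutator_def, Subgroup.commutator_le]
      intro g _ h _
      refine Subgroup.mem_subgroupOf.mpr ⟨(⁅g, h⁆ : K).2, fun v => ?_⟩
      have := hxy g g.2 h h.2 (ρ ((h : G) * g)⁻¹ v)
      rw [← Module.End.mul_apply, ← Module.End.mul_apply, ← map_mul, ← map_mul, mul_inv_cancel,
        map_one, Module.End.one_apply] at this
      convert this using 3
      simp only [commutatorElement_def, Subgroup.coe_mul, Subgroup.coe_inv]
      congr 1
      group
    exact fun k hk => hle (show (⟨k, hk⟩ : K) ∈ commutator K from hc ▸ Subgroup.mem_top _)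
  obtain ⟨k, hk, hk1⟩ := hB.nontriv
  refine hk1 (map_eq_one_of_comm hB.qs ρ (fun x hx y hy => LinearMap.ext fun v => ?_) k hk)
  have h1 := hKU x hx _ ((hKS hy).2 v)
  have h2 := hKU y hy _ ((hKS hx).2 v)
  rw [map_sub, sub_eq_iff_eq_add] at h1 h2
  rw [Module.End.mul_apply, Module.End.mul_apply, h1, h2]
  abel

/-- For `p = 2`: the transvection case. -/
theorem false_of_transvection (hp2 : p = 2) {b : G} (hb : b ∈ A)
    (hn : b ∉ Subgroup.normalizer (K : Set G)) (hrange : Nat.card (LinearMap.range (nn ρ b)) ≤ 2) :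
    False := by
  have hbi := hB.inv_eq_self_of_two hp2 hb
  refine not_forall_pow_twelve hB.qs fun x hx => commute_of_map_commutator hB.qs ρ hB.nontriv
    (fun y hy => mul_mem (mul_mem (pow_mem hx 12) hy) (inv_mem (pow_mem hx 12)))
    (hB.eq_one_of_commute (pow_mem hx 12) fun y hy => ?_)
  set b' := x * b * x⁻¹ with hb'
  have hrange' : Nat.card (LinearMap.range (nn ρ b')) ≤ 2 := by
    refine le_trans ?_ hrange
    refine Nat.card_le_card_of_surjective
      (fun w : LinearMap.range (nn ρ b) => (⟨ρ x w, ?_⟩ : LinearMap.range (nn ρ b'))) ?_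
    · obtain ⟨v, hv⟩ := w.2
      refine ⟨ρ x v, ?_⟩
      rw [hb', nn_conj, Module.End.mul_apply, Module.End.mul_apply,
        ← Module.End.mul_apply (ρ x⁻¹), ← map_mul, inv_mul_cancel, map_one, Module.End.one_apply, hv]
    · rintro ⟨w, v, rfl⟩
      refine ⟨⟨nn ρ b (ρ x⁻¹ v), ρ x⁻¹ v, rfl⟩, Subtype.ext ?_⟩
      show ρ x (nn ρ b (ρ x⁻¹ v)) = nn ρ b' v
      rw [hb', nn_conj, Module.End.mul_apply, Module.End.mul_apply]
  set J := LinearMap.range (nn ρ b) ⊔ LinearMap.range (nn ρ b') with hJ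
  have hJcard : Nat.card J ≤ 4 := (card_sup_le_mul _ _).trans (Nat.mul_le_mul hrange hrange')
  set g := b * b' with hg
  have hgJ : ∀ v, nn ρ g v ∈ J := by
    intro v
    rw [hg, nn_mul_left, LinearMap.add_apply, Module.End.mul_apply,
      show ρ b (nn ρ b' v) = nn ρ b (nn ρ b' v) + nn ρ b' v by
        simp [nn_apply]]
    exact add_mem (add_mem (Submodule.mem_sup_left ⟨_, rfl⟩) (Submodule.mem_sup_right ⟨_, rfl⟩))
      (Submodule.mem_sup_left ⟨_, rfl⟩)
  have hpowJ : ∀ n : ℕ, ∀ v, nn ρ (g ^ n) v ∈ J := by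
    intro n
    induction n with
    | zero => intro v; simp [nn_one]
    | succ n ih =>
      intro v
      rw [pow_succ, nn_mul_right, LinearMap.add_apply, Module.End.mul_apply]
      exact add_mem (ih _) (hgJ v)
  have hfix : ∀ v ∈ J, ρ (g ^ 6) v = v := by
    intro v hv
    by_cases hv0 : v = 0
    · subst hv0; exact map_zero _
    classical
    haveI := Fintype.ofFinite J
    have hinvJ : ∀ n : ℕ, ρ (g ^ n) v ∈ J ∧ ρ (g ^ n) v ≠ 0 := fun n => by
      refine ⟨?_, fun h => hv0 ?_⟩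
      · have := add_mem (hpowJ n v) hv
        rwa [nn_apply, sub_add_cancel] at this
      · have := congrArg (ρ (g ^ n)⁻¹) h
        rwa [map_zero, ← Module.End.mul_apply, ← map_mul, inv_mul_cancel, map_one,
          Module.End.one_apply] at this
    let f : Fin 4 → {w : J // w ≠ 0} := fun i =>
      ⟨⟨_, (hinvJ i).1⟩, fun h => (hinvJ i).2 (congrArg Subtype.val h)⟩
    obtain ⟨i, j, hne, hij⟩ : ∃ i j : Fin 4, i ≠ j ∧ f i = f j := by
      refine Fintype.exists_ne_map_eq_of_card_lt f ?_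
      rw [Fintype.card_fin]
      have h1 : Fintype.card {w : J // w ≠ 0} < Fintype.card J :=
        Fintype.card_subtype_lt (x := 0) (by simp)
      rw [Nat.card_eq_fintype_card] at hJcard
      omega
    wlog hlt : (i : ℕ) < j generalizing i j
    · exact this j i hne.symm hij.symm (by
        have : (i : ℕ) ≠ j := fun h => hne (Fin.ext h)
        omega)
    have heq : ρ (g ^ (i : ℕ)) v = ρ (g ^ (j : ℕ)) v := congrArg (fun w => ((w.1 : J) : V)) hij
    obtain ⟨d, hd⟩ := Nat.exists_eq_add_of_le hlt.le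
    have hdv : ρ (g ^ d) v = v := by
      have := congrArg (ρ (g ^ (i : ℕ))⁻¹) heq.symm
      rwa [hd, pow_add, ← Module.End.mul_apply, ← Module.End.mul_apply, ← map_mul, ← map_mul,
        inv_mul_cancel_left, inv_mul_cancel, map_one, Module.End.one_apply] at this
    have hd6 : d ∣ 6 := by
      have : d = 1 ∨ d = 2 ∨ d = 3 := by omega
      rcases this with rfl | rfl | rfl <;> decide
    obtain ⟨e, he⟩ := hd6
    rw [he]
    clear he
    induction e with
    | zero => simp
    | succ e ihe =>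
      rw [Nat.mul_succ, pow_add, map_mul, Module.End.mul_apply, hdv, ihe]
  have h12 : ρ (g ^ 12) = 1 := by
    have h0 : nn ρ (g ^ 6) * nn ρ (g ^ 6) = 0 := by
      refine LinearMap.ext fun v => ?_
      rw [Module.End.mul_apply, nn_apply, hfix _ (hpowJ 6 v), sub_self]
      rfl
    have h2 := end_two_eq_zero (V := V) hp2
    rw [show (12 : ℕ) = 6 + 6 from rfl, pow_add, map_mul]
    calc ρ (g ^ 6) * ρ (g ^ 6)
        = nn ρ (g ^ 6) * nn ρ (g ^ 6) + 2 * nn ρ (g ^ 6) + 1 := by simp only [nn]; noncomm_ring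
      _ = 1 := by rw [h0, h2, zero_mul, zero_add, zero_add]
  set x₁ := b * x * b⁻¹
  have hgx : g = x₁ * x⁻¹ := by
    show b * (x * b * x⁻¹) = b * x * b⁻¹ * x⁻¹
    rw [hbi]; group
  have hcm : Commute x₁ x⁻¹ := (hB.conj b hb hn x hx x hx).symm.inv_right
  rw [hgx, hcm.mul_pow, map_mul] at h12
  have hxx : ρ (x ^ 12) = ρ (x₁ ^ 12) := by
    calc ρ (x ^ 12) = ρ (x₁ ^ 12) * ρ (x⁻¹ ^ 12) * ρ (x ^ 12) := by rw [h12, one_mul]
      _ = ρ (x₁ ^ 12) := by
        rw [mul_assoc, ← map_mul ρ (x⁻¹ ^ 12), inv_pow, inv_mul_cancel, map_one, mul_one]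
  rw [hxx]
  exact ((hB.conj b hb hn y hy x hx).symm.pow_left 12).map ρ

/-- Some element of `star` normalises `K` and acts nontrivially. -/
theorem exists_b : ∃ b ∈ star ρ A, b ∈ Subgroup.normalizer (K : Set G) ∧ ρ b ≠ 1 := by
  classical
  by_contra hcon
  push Not at hcon
  obtain ⟨C, hC, hCle⟩ := hB.exists_kernel
  obtain ⟨hcard, hfix⟩ := star_spec hB.comm hB.best
  obtain ⟨a, ha, hn⟩ := hB.exists_moving
  obtain ⟨b, hb, hb1⟩ : ∃ b ∈ star ρ A, ρ b ≠ 1 := by
    by_contra h
    push Not at h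
    have htop : fix ρ (star ρ A) = ⊤ := eq_top_iff.mpr fun v _ c hc => by
      rw [h c hc, Module.End.one_apply]
    rw [htop, top_le_iff] at hfix
    exact hn (hB.mem_normalizer_of_map_eq_one ha
      (eq_one_of_sup_eq_top hB.comm (fun c hc => hB.pow_p_nn hc) hfix a ha))
  have hbn : b ∉ Subgroup.normalizer (K : Set G) := fun h => hb1 (hcon b hb h)
  by_cases hp2 : p = 2
  · have hsub : ∀ c ∈ star ρ A, c ∈ C ∨ b⁻¹ * c ∈ C := by
      intro c hc
      by_contra hne
      push Not at hne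
      have hbc : b⁻¹ * c ∈ star ρ A := mul_mem (inv_mem hb) hc
      have h1 : c ∉ Subgroup.normalizer (K : Set G) := fun h =>
        hne.1 ((hC c).mpr ⟨hc.1, hcon c hc h⟩)
      have h2 : b * c ∉ Subgroup.normalizer (K : Set G) := fun h => by
        rw [← hB.inv_eq_self_of_two hp2 hb.1] at h
        exact hne.2 ((hC _).mpr ⟨hbc.1, hcon _ hbc h⟩)
      exact hB.no_four hp2 hb.1 hc.1 hbn h1 h2 (hb.2 c hc.1)
    have hle : Nat.card (star ρ A) ≤ Nat.card C * 2 := by
      have := card_le_of_fibres (X := Fin 2) (star ρ A) C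
        (fun c => if (c : G) ∈ C then 0 else 1) ?_
      · simpa using this
      intro c c' h
      by_cases h1 : (c : G) ∈ C <;> by_cases h2 : (c' : G) ∈ C <;> simp [h1, h2] at h
      · exact mul_mem (inv_mem h1) h2
      · have e1 := (hsub c c.2).resolve_left h1
        have e2 := (hsub c' c'.2).resolve_left h2
        simpa [mul_assoc] using mul_mem (inv_mem e1) e2
    have hfle : Nat.card (fix ρ (star ρ A)) ≤ Nat.card (LinearMap.ker (nn ρ b)) := by
      refine Nat.card_le_card_of_injective _ (Submodule.inclusion_injective (fun v hv => ?_))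
      rw [LinearMap.mem_ker, nn_apply, hv b hb, sub_self]
    refine hB.false_of_transvection hp2 hb.1 hbn ?_
    have h1 : Nat.card C * Nat.card V ≤ Nat.card C * (2 * Nat.card (LinearMap.ker (nn ρ b))) :=
      calc Nat.card C * Nat.card V ≤ _ := hB.card_bound hC
        _ ≤ _ := hcard
        _ ≤ (Nat.card C * 2) * Nat.card (LinearMap.ker (nn ρ b)) := Nat.mul_le_mul hle hfle
        _ = _ := by ring
    have h2 := Nat.le_of_mul_le_mul_left h1 Nat.card_pos
    rw [← card_ker_mul_card_range (nn ρ b), mul_comm 2] at h2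
    exact Nat.le_of_mul_le_mul_left h2 Nat.card_pos
  · exact hbn (hB.quadratic_mem_normalizer hp2 hb.1 (hb.2 b hb.1))

omit [Finite V] in
/-- An involution acting nontrivially on `K` inverts, on `V`, an element of odd order of `K`. -/
theorem exists_inverted (hp2 : p = 2) {b : G} (hb : b ∈ A) (hbn : b ∈ Subgroup.normalizer (K : Set G))
    (hby : ∃ y ∈ K, ρ ⁅b, y⁆ ≠ 1) :
    ∃ d ∈ K, ρ d ≠ 1 ∧ (∃ m, m.Coprime p ∧ ρ d ^ m = 1) ∧ ρ (b * d * b⁻¹) = ρ d⁻¹ := by
  set φ := Representation.asGroupHom ρ with hφ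
  have hφρ : ∀ g, (φ g : Module.End (ZMod p) V) = ρ g := fun g => Representation.asGroupHom_apply ρ g
  have hφ1 : ∀ g, φ g = 1 ↔ ρ g = 1 := fun g => by rw [← Units.val_eq_one, hφρ]
  set H0 := K ⊔ Subgroup.zpowers b
  have hH0n : Subgroup.zpowers b ≤ Subgroup.normalizer (K : Set G) := by
    rw [Subgroup.zpowers_le]; exact hbn
  have hbH0 : b ∈ H0 := Subgroup.mem_sup_right (Subgroup.mem_zpowers b)
  set Hs := H0.map φ with hHs
  haveI : Finite Hs := Finite.of_surjective (φ.subgroupMap H0) (φ.subgroupMap_surjective H0)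
  let t : Hs := ⟨φ b, b, hbH0, rfl⟩
  have hbK : ∀ y ∈ K, ⁅b, y⁆ ∈ K := fun y hy => by
    rw [commutatorElement_def]
    exact mul_mem (hB.conj_mem hbn hy) (inv_mem hy)
  have ht : orderOf t = 2 := by
    rw [orderOf_eq_prime_iff]
    refine ⟨Subtype.ext ?_, fun h => ?_⟩
    · show φ b ^ 2 = 1
      rw [← map_pow, ← hp2, hB.pow b hb, map_one]
    · obtain ⟨y, hy, hne⟩ := hby
      refine hne ((hφ1 _).mp ?_)
      rw [map_commutatorElement, show φ b = 1 from congrArg Subtype.val h, commutatorElement_one_left]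
  have hO : ∀ N : Subgroup Hs, N.Normal → IsPGroup 2 N → t ∉ N := by
    intro N hN hNp htN
    let S : Subgroup G := (N.map Hs.subtype).comap φ
    have hmemS : ∀ g (hg : g ∈ H0), (⟨φ g, g, hg, rfl⟩ : Hs) ∈ N → g ∈ S :=
      fun g hg hgN => ⟨_, hgN, rfl⟩
    have hSmem : ∀ g (hg : g ∈ H0), g ∈ S → (⟨φ g, g, hg, rfl⟩ : Hs) ∈ N := by
      rintro g hg ⟨z, hz, hzg⟩
      have hze : z = (⟨φ g, g, hg, rfl⟩ : Hs) := Subtype.ext hzg
      rwa [hze] at hz
    obtain ⟨y, hy, z, hz, hyz⟩ : ∃ y ∈ K, ∃ z ∈ K, ¬ Commute ⁅b, y⁆ z := by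
      by_contra hcon
      push Not at hcon
      obtain ⟨y, hy, hne⟩ := hby
      have := commute_of_commutator_central hB.qs (fun w hw => hB.conj_mem hbn hw) hcon y hy
      exact hne (by rw [commutatorElement_eq_one_iff_mul_comm.mpr this.eq, map_one])
    have hKS : K ≤ S := by
      refine le_of_normalized hB.qs S (fun k hk g hg hgS => ?_) (hbK y hy) ?_ ⟨z, hz, hyz⟩
      · have h1 : k ∈ H0 := Subgroup.mem_sup_left hk
        refine hmemS _ (mul_mem (mul_mem h1 (Subgroup.mem_sup_left hg)) (inv_mem h1)) ?_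
        convert hN.conj_mem _ (hSmem g (Subgroup.mem_sup_left hg) hgS) ⟨φ k, k, h1, rfl⟩ using 1
        exact Subtype.ext (by simp)
      · refine hmemS _ (Subgroup.mem_sup_left (hbK y hy)) ?_
        have h1 : y ∈ H0 := Subgroup.mem_sup_left hy
        convert mul_mem htN (hN.conj_mem _ (inv_mem htN) ⟨φ y, y, h1, rfl⟩) using 1
        refine Subtype.ext ?_
        show φ ⁅b, y⁆ = φ b * (φ y * (φ b)⁻¹ * (φ y)⁻¹)
        rw [map_commutatorElement, commutatorElement_def]
        group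
    obtain ⟨x, hx, hxo, w, hw, hne⟩ := hB.exists_x
    obtain ⟨k, hk⟩ := hNp ⟨_, hSmem x (Subgroup.mem_sup_left hx) (hKS hx)⟩
    have hk' : φ x ^ 2 ^ k = 1 := congrArg (fun q => ((q.1 : Hs) : (Module.End (ZMod p) V)ˣ)) hk
    have hx1 : φ x = 1 := by
      rw [← orderOf_eq_one_iff]
      have hxo2 : (orderOf x).Coprime 2 := by
        have := hxo
        rwa [hp2] at this
      exact Nat.eq_one_of_dvd_coprimes (hxo2.pow_right k) (orderOf_map_dvd φ x)
        (orderOf_dvd_of_pow_eq_one hk')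
    refine hne ((hφ1 _).mp ?_)
    rw [map_commutatorElement, hx1, commutatorElement_one_left]
  obtain ⟨h, hh1, hhodd, hht⟩ := CfsgLib.Invol.exists_odd_inverted_of_notMem_normal_two ht hO
  obtain ⟨g, hg, hgh⟩ := h.2
  obtain ⟨k, hk, z, hz, rfl⟩ := (CfsgLib.Solvable.mem_sup_of_le_normalizer hH0n).mp hg
  have hzb : z * b * z⁻¹ = b := by
    obtain ⟨i, rfl⟩ := Subgroup.mem_zpowers_iff.mp hz
    group
  refine ⟨k * z * b * (k * z)⁻¹ * b⁻¹, ?_, ?_⟩
  · rw [show k * z * b * (k * z)⁻¹ * b⁻¹ = k * ((z * b * z⁻¹) * k⁻¹ * b⁻¹) by group, hzb]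
    exact mul_mem hk (hB.conj_mem hbn (inv_mem hk))
  set d := k * z * b * (k * z)⁻¹ * b⁻¹
  have hinv : φ b * (h : (Module.End (ZMod p) V)ˣ) * (φ b)⁻¹ = (h : (Module.End (ZMod p) V)ˣ)⁻¹ :=
    congrArg Subtype.val hht
  have hd : φ d = (h : (Module.End (ZMod p) V)ˣ) ^ 2 := by
    show φ (k * z * b * (k * z)⁻¹ * b⁻¹) = _
    rw [map_mul, map_mul, map_inv, map_inv, map_mul, hgh, mul_assoc, mul_assoc,
      show φ b * ((h : (Module.End (ZMod p) V)ˣ)⁻¹ * (φ b)⁻¹) =
        (φ b * (h : (Module.End (ZMod p) V)ˣ) * (φ b)⁻¹)⁻¹ by group, hinv, inv_inv, pow_two]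
  have hdo : φ d ^ orderOf h = 1 := by
    rw [hd, ← pow_mul, mul_comm, pow_mul, ← SubmonoidClass.coe_pow, pow_orderOf_eq_one]
    simp
  refine ⟨fun hcon => hh1 (Subtype.ext ?_), ⟨orderOf h, ?_, ?_⟩, ?_⟩
  · have h2 : (h : (Module.End (ZMod p) V)ˣ) ^ 2 = 1 := hd ▸ (hφ1 d).mpr hcon
    show (h : (Module.End (ZMod p) V)ˣ) = 1
    rw [← orderOf_eq_one_iff]
    refine Nat.eq_one_of_dvd_coprimes (Nat.coprime_two_right.mpr hhodd) ?_ (orderOf_dvd_of_pow_eq_one h2)
    exact (Subgroup.orderOf_coe h).dvd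
  · exact Eq.subst (motive := fun n => (orderOf h).Coprime n) hp2.symm
      (Nat.coprime_two_right.mpr hhodd)
  · rw [← hφρ, ← Units.val_pow_eq_pow_val, hdo, Units.val_one]
  · rw [← hφρ, ← hφρ, map_mul, map_mul, map_inv, map_inv, hd, ← conj_pow, hinv, inv_pow]

/-- For `p = 2`, everything about an element `b` of `star ∩ N(K)` acting nontrivially. -/
theorem inverted_spec (hp2 : p = 2) {b : G} (hb : b ∈ star ρ A)
    (hbn : b ∈ Subgroup.normalizer (K : Set G)) (hb1 : ρ b ≠ 1) :
    Nat.card V = Nat.card (LinearMap.ker (nn ρ b)) * Nat.card (LinearMap.ker (nn ρ b)) ∧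
    LinearMap.ker (nn ρ b) = LinearMap.range (nn ρ b) ∧
    ∃ d ∈ K, ρ (b * d * b⁻¹) = ρ d⁻¹ ∧ Function.Bijective (ρ d + ρ d⁻¹) ∧
      (∀ g ∈ A, Commute (ρ d + ρ d⁻¹) (ρ g)) ∧ (∀ y ∈ K, Commute (ρ d + ρ d⁻¹) (ρ y)) := by
  have hby := hB.exists_commutator hb hbn hb1
  obtain ⟨d, hd, hd1, ⟨m, hm, hdm⟩, hinv⟩ := hB.exists_inverted hp2 hb.1 hbn hby
  obtain ⟨a, ha, hn⟩ := hB.exists_moving
  set s := ρ d + ρ d⁻¹ with hs
  have htr : ∀ c ∈ A, c ∉ Subgroup.normalizer (K : Set G) → ρ c * s * ρ c⁻¹ = s := by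
    intro c hc hcn
    have h := hB.trace_eq hp2 hc hcn hb.1 hbn (mul_nn_eq_zero hB.comm hb hc) hby hd
    rw [conj_inv, map_conj_eq, map_conj_eq] at h
    rw [hs, mul_add, add_mul, ← h]
  have hcomm_of : ∀ c : G, ρ c * s * ρ c⁻¹ = s → Commute s (ρ c) := by
    intro c h
    show s * ρ c = ρ c * s
    conv_lhs => rw [← h]
    rw [mul_assoc, ← map_mul, inv_mul_cancel, map_one, mul_one]
  have hsA : ∀ g ∈ A, Commute s (ρ g) := by
    intro g hg
    by_cases hgn : g ∈ Subgroup.normalizer (K : Set G)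
    · have hag : a * g ∉ Subgroup.normalizer (K : Set G) := fun h =>
        hn (by simpa using mul_mem h (inv_mem hgn))
      have h1 := hcomm_of _ (htr _ (mul_mem ha hg) hag)
      have h2 := (hcomm_of _ (htr _ (inv_mem ha) (fun h => hn (by simpa using inv_mem h))))
      have h3 := h2.mul_right h1
      rwa [← map_mul, inv_mul_cancel_left] at h3
    · exact hcomm_of _ (htr g hg hgn)
  have hsK : ∀ y ∈ K, Commute s (ρ y) := by
    intro y hy
    have h := hB.trace_eq hp2 ha hn hb.1 hbn (mul_nn_eq_zero hB.comm hb ha) hby hd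
    rw [hs, h]
    have h1 := (hB.conj a ha hn y hy d hd).symm
    exact (h1.map ρ).add_left (h1.inv_left.map ρ)
  -- `s` is surjective by minimality
  have htop : LinearMap.range s = ⊤ := by
    refine hB.minimal _ (fun c hc w hw => ?_) (fun k hk w hw => ?_) ?_
    · obtain ⟨v, rfl⟩ := hw
      exact ⟨ρ c v, by rw [← Module.End.mul_apply, (hsA c hc).eq, Module.End.mul_apply]⟩
    · obtain ⟨v, rfl⟩ := hw
      exact ⟨ρ k v, by rw [← Module.End.mul_apply, (hsK k hk).eq, Module.End.mul_apply]⟩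
    · by_contra hne
      push Not at hne
      have hds : ρ d * s = s := LinearMap.ext fun v => hne d hd _ ⟨v, rfl⟩
      have h1 : ρ d * ρ d⁻¹ = 1 := by rw [← map_mul, mul_inv_cancel, map_one]
      refine hd1 (eq_one_of_sub_one_pow (p := p) cast_p_eq_zero hm hdm (n := 3) ?_)
      have h2 := end_two_eq_zero (V := V) hp2
      have h3 : (ρ d * s - s) * ρ d = ρ d * ρ d * ρ d + ρ d - ρ d * ρ d - 1 := by
        have h1' : ρ d⁻¹ * ρ d = 1 := by rw [← map_mul, inv_mul_cancel, map_one]
        rw [hs, mul_add, h1, sub_mul, add_mul, add_mul, one_mul, h1']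
        abel
      rw [hds, sub_self, zero_mul] at h3
      calc (ρ d - 1) ^ 3 = (ρ d * ρ d * ρ d + ρ d - ρ d * ρ d - 1)
            + 2 * (ρ d - ρ d * ρ d) := by noncomm_ring
        _ = 0 := by rw [← h3, h2, zero_mul, add_zero]
  have hsurj : Function.Surjective s := LinearMap.range_eq_top.mp htop
  have hbij : Function.Bijective s := ⟨Finite.injective_iff_surjective.mpr hsurj, hsurj⟩
  have hle : LinearMap.range (nn ρ b) ≤ LinearMap.ker (nn ρ b) := by
    rintro _ ⟨v, rfl⟩
    rw [LinearMap.mem_ker, ← Module.End.mul_apply, hb.2 b hb.1, LinearMap.zero_apply]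
  have hsb : Commute s (nn ρ b) := (hsA b hb.1).sub_right (Commute.one_right _)
  have hge : LinearMap.ker (nn ρ b) ≤ LinearMap.range (nn ρ b) := by
    intro v hv
    obtain ⟨u, rfl⟩ := hsurj v
    have hu : u ∈ LinearMap.ker (nn ρ b) := by
      rw [LinearMap.mem_ker] at hv ⊢
      refine hbij.1 ?_
      rw [map_zero, ← Module.End.mul_apply, hsb.eq, Module.End.mul_apply, hv]
    refine ⟨ρ d u, ?_⟩
    rw [LinearMap.mem_ker, nn_apply, sub_eq_zero] at hu
    have h1 : ρ b (ρ d u) = ρ d⁻¹ u := by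
      rw [← hinv, map_conj_eq, Module.End.mul_apply, Module.End.mul_apply]
      congr 2
      conv_lhs => rw [← hu]
      rw [hB.inv_eq_self_of_two hp2 hb.1, hu]
    rw [nn_apply, h1, hs, LinearMap.add_apply, sub_eq_add_neg, neg_eq_self_of_two hp2, add_comm]
  have heq := le_antisymm hge hle
  refine ⟨?_, heq, d, hd, hinv, hbij, hsA, hsK⟩
  conv_lhs => rw [← card_ker_mul_card_range (nn ρ b), ← heq]

theorem false_of_bad : False := by
  classical
  obtain ⟨b, hb, hbn, hb1⟩ := hB.exists_b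
  obtain ⟨a, ha, hn⟩ := hB.exists_moving
  have hby := hB.exists_commutator hb hbn hb1
  by_cases hp2 : p = 2
  swap
  · exact hB.false_of_odd hp2 ha hn hb.1 hbn (mul_nn_eq_zero hB.comm hb ha) hby
  obtain ⟨hcardV, hFeq, d, hd, hinv, hbij, hsA, hsK⟩ := hB.inverted_spec hp2 hb hbn hb1
  set s := ρ d + ρ d⁻¹ with hs
  set F := LinearMap.ker (nn ρ b) with hF
  have hneg := neg_eq_self_of_two (V := V) hp2
  -- every element of `A` fixes `F` and is trivial on `V / F`
  have hrangeF : ∀ c ∈ A, ∀ v, nn ρ c v ∈ F := by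
    intro c hc v
    rw [hF, LinearMap.mem_ker, ← Module.End.mul_apply, hb.2 c hc, LinearMap.zero_apply]
  have hkillF : ∀ c ∈ A, ∀ f ∈ F, nn ρ c f = 0 := by
    intro c hc f hf
    rw [hFeq] at hf
    obtain ⟨v, rfl⟩ := hf
    rw [← Module.End.mul_apply, mul_nn_eq_zero hB.comm hb hc, LinearMap.zero_apply]
  have hquad : ∀ c ∈ A, ∀ e ∈ A, nn ρ c * nn ρ e = 0 := fun c hc e he =>
    LinearMap.ext fun v => hkillF c hc _ (hrangeF e he v)
  have hadd : ∀ c ∈ A, ∀ e ∈ A, nn ρ (c * e) = nn ρ c + nn ρ e := by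
    intro c hc e he
    rw [nn_mul_left, show ρ c * nn ρ e = nn ρ c * nn ρ e + nn ρ e by simp only [nn]; noncomm_ring,
      hquad c hc e he, zero_add, add_comm]
  have hd2 : ∀ v, ρ d (ρ d v) = s (ρ d v) + v := by
    intro v
    rw [hs, LinearMap.add_apply, ← Module.End.mul_apply (ρ d⁻¹), ← map_mul, inv_mul_cancel, map_one,
      Module.End.one_apply, add_assoc, show v + v = 0 from add_eq_zero_iff_eq_neg.mpr (hneg v).symm,
      add_zero]
  have hsd : ∀ v, s (ρ d v) = ρ d (s v) := fun v => by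
    rw [← Module.End.mul_apply, (hsK d hd).eq, Module.End.mul_apply]
  have hsF : ∀ f ∈ F, s f ∈ F := by
    intro f hf
    rw [hF, LinearMap.mem_ker] at hf ⊢
    rw [← Module.End.mul_apply, ← ((hsA b hb.1).sub_right (Commute.one_right _)).eq,
      Module.End.mul_apply, hf, map_zero]
  let L : G → Module.End (ZMod p) V := fun c => nn ρ c * ρ d
  have hLF : ∀ c ∈ A, ∀ v, L c v ∈ F := fun c hc v => hrangeF c hc _
  have hfixF : ∀ c ∈ A, ∀ f ∈ F, ρ c f = f := fun c hc f hf => by
    have := hkillF c hc f hf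
    rwa [nn_apply, sub_eq_zero] at this
  have hsL : ∀ c ∈ A, ∀ v, s (L c v) = L c (s v) := fun c hc v => by
    rw [← Module.End.mul_apply, ← Module.End.mul_apply,
      (((hsA c hc).sub_right (Commute.one_right _)).mul_right (hsK d hd)).eq]
  have hLb : ∀ f ∈ F, L b f = s f := by
    intro f hf
    show nn ρ b (ρ d f) = s f
    have h1 : ρ b (ρ d f) = ρ d⁻¹ f := by
      rw [← hinv, map_conj_eq, Module.End.mul_apply, Module.End.mul_apply]
      congr 2
      exact (hfixF b⁻¹ (inv_mem hb.1) f hf).symm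
    rw [nn_apply, h1, hs, LinearMap.add_apply, sub_eq_add_neg, hneg, add_comm]
  -- the basic identity for moving elements
  have hkey : ∀ e ∈ A, e ∉ Subgroup.normalizer (K : Set G) → ∀ f ∈ F, L e (L e f) = s (L e f) := by
    intro e he hen f hf
    have hei := hB.inv_eq_self_of_two hp2 he
    have hcd := ((hB.conj e he hen d hd d hd).map ρ).eq
    have hde : ∀ v, ρ e (ρ d v) = ρ d v + L e v := fun v => by
      show _ = _ + (ρ e (ρ d v) - ρ d v); abel
    have h1 : ρ (e * d * e⁻¹) f = ρ d f + L e f := by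
      rw [map_conj_eq, Module.End.mul_apply, Module.End.mul_apply, hfixF _ (inv_mem he) f hf, hde]
    have h2 : ρ (e * d * e⁻¹) (ρ d f) = s (ρ d f) + s (L e f) + f + ρ d (L e f) + L e (L e f) := by
      rw [map_conj_eq, hei, Module.End.mul_apply, Module.End.mul_apply, hde f, map_add, hd2,
        map_add, map_add, hde (L e f), ← Module.End.mul_apply (ρ e) s, ← (hsA e he).eq,
        Module.End.mul_apply, hde f, map_add, hfixF e he f hf]
      abel
    have h3 : ρ d (ρ (e * d * e⁻¹) f) = s (ρ d f) + f + ρ d (L e f) := by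
      rw [h1, map_add, hd2]
    have h4 := LinearMap.congr_fun hcd f
    rw [Module.End.mul_apply, Module.End.mul_apply, h3, h2] at h4
    have h5 : L e (L e f) + s (L e f) = 0 := by
      have := sub_eq_zero.mpr h4.symm
      rw [← this]; abel
    rw [eq_neg_of_add_eq_zero_left h5, hneg]
  -- at most one nontrivial coset
  have hcoset : ∀ c ∈ A, c ∉ Subgroup.normalizer (K : Set G) →
      a * c ∈ Subgroup.normalizer (K : Set G) := by
    intro c hc hcn
    by_contra h
    exact hB.no_four hp2 ha hc hn hcn h (hquad a ha c hc)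
  obtain ⟨C, hC, hCle⟩ := hB.exists_kernel
  set B := A ⊓ Subgroup.normalizer (K : Set G)
  have hAB : Nat.card A ≤ Nat.card B * 2 := by
    have := card_le_of_fibres (X := Fin 2) A B
      (fun c => if (c : G) ∈ Subgroup.normalizer (K : Set G) then 0 else 1) ?_
    · simpa using this
    intro c c' h
    refine Subgroup.mem_inf.mpr ⟨mul_mem (inv_mem c.2) c'.2, ?_⟩
    by_cases h1 : (c : G) ∈ Subgroup.normalizer (K : Set G) <;>
      by_cases h2 : (c' : G) ∈ Subgroup.normalizer (K : Set G) <;> simp [h1, h2] at h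
    · exact mul_mem (inv_mem h1) h2
    · simpa [mul_assoc] using mul_mem (inv_mem (hcoset c c.2 h1)) (hcoset c' c'.2 h2)
  -- `L c` is injective on `F` for `c ∈ B` acting nontrivially
  have hinjc : ∀ c ∈ B, ρ c ≠ 1 → ∀ f ∈ F, L c f = 0 → f = 0 := by
    intro c hc hc1 f hf hLf
    have hcs : c ∈ star ρ A := ⟨hc.1, fun e he => hquad c hc.1 e he⟩
    obtain ⟨hcard', -, -⟩ := hB.inverted_spec hp2 hcs hc.2 hc1
    have hle : F ≤ LinearMap.ker (nn ρ c) := fun v hv => hkillF c hc.1 v hv
    have heq : F = LinearMap.ker (nn ρ c) := by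
      refine SetLike.coe_injective (Set.eq_of_subset_of_ncard_le hle ?_ (Set.toFinite _))
      rw [← Nat.card_coe_set_eq, ← Nat.card_coe_set_eq]
      exact (Nat.mul_self_le_mul_self_iff.mp (hcard'.symm.trans hcardV).le)
    have h1 : ρ d f ∈ F := by rw [heq, LinearMap.mem_ker]; exact hLf
    rw [hF, LinearMap.mem_ker] at h1
    have h2 : L b f = 0 := h1
    rw [hLb f hf] at h2
    exact hbij.1 (by rw [h2, map_zero])
  -- the eigenspaces
  let P : Submodule (ZMod p) V := F ⊓ LinearMap.ker (L a - s)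
  let N : Submodule (ZMod p) V := F ⊓ LinearMap.ker (L a)
  have hexp : ∀ c ∈ B, ∀ f ∈ F, L a (L c f) + L c (L a f) + L c (L c f) = s (L c f) := by
    intro c hc f hf
    have hac : a * c ∉ Subgroup.normalizer (K : Set G) := fun h =>
      hn (by simpa using mul_mem h (inv_mem hc.2))
    have h := hkey _ (mul_mem ha hc.1) hac f hf
    have hL : L (a * c) = L a + L c := by
      show nn ρ (a * c) * ρ d = _
      rw [hadd a ha c hc.1, add_mul]
    rw [hL] at h
    simp only [LinearMap.add_apply, map_add] at h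
    rw [hkey a ha hn f hf] at h
    have := sub_eq_zero.mpr h
    rw [← sub_eq_zero, ← this]
    abel
  -- counting map
  have hcount : ∀ (X : Submodule (ZMod p) V) (T : G → V) (v0 : V), v0 ∈ F → v0 ≠ 0 →
      (∀ c ∈ B, T c ∈ X) → (∀ c ∈ B, ∀ e ∈ B, T (c * e) = T c + T e) →
      (∀ c ∈ B, T c = 0 → L c (L c v0) = 0) → Nat.card B ≤ Nat.card C * Nat.card X := by
    intro X T v0 hv0 hne hTX hTadd hT0
    refine card_le_of_fibres B C (fun c => (⟨T c, hTX c c.2⟩ : X)) fun c c' h => ?_
    have h' : T c = T c' := congrArg Subtype.val h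
    have hci := hB.inv_eq_self_of_two hp2 c.2.1
    rw [hci]
    have hmem : (c : G) * c' ∈ B := mul_mem c.2 c'.2
    refine (hC _).mpr ⟨hmem.1, ?_⟩
    by_contra hne1
    have h0 : T ((c : G) * c') = 0 := by
      rw [hTadd _ c.2 _ c'.2, h', add_eq_zero_iff_eq_neg, hneg]
    have h1 := hT0 _ hmem h0
    exact hne (hinjc _ hmem hne1 v0 hv0 (hinjc _ hmem hne1 _ (hLF _ hmem.1 _) h1))
  have hLadd : ∀ c ∈ B, ∀ e ∈ B, ∀ v, L (c * e) v = L c v + L e v := by
    intro c hc e he v
    show (nn ρ (c * e) * ρ d) v = _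
    rw [hadd c hc.1 e he.1, add_mul, LinearMap.add_apply]
  have hext : ∀ S T : Module.End (ZMod p) V,
      (∀ f ∈ F, S f = T f ∧ S (ρ d f) = T (ρ d f)) → S = T := by
    intro S T hST
    let g : F × F → V := fun z => (z.1 : V) + ρ d z.2
    have hzero : ∀ u w : V, u ∈ F → w ∈ F → u + ρ d w = 0 → u = 0 ∧ w = 0 := by
      intro u w hu hw h
      have h1 := congrArg (nn ρ b) h
      rw [map_add, hkillF b hb.1 u hu, zero_add, map_zero] at h1
      have h2 : L b w = 0 := h1
      rw [hLb w hw] at h2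
      have hw0 : w = 0 := hbij.1 (by rw [h2, map_zero])
      refine ⟨?_, hw0⟩
      rw [hw0, map_zero, add_zero] at h
      exact h
    have hg : Function.Injective g := by
      intro z z' h
      have h0 : ((z.1 : V) - z'.1) + ρ d ((z.2 : V) - z'.2) = 0 := by
        rw [map_sub, ← sub_eq_zero.mpr h]; simp only [g]; abel
      obtain ⟨e1, e2⟩ := hzero _ _ (sub_mem z.1.2 z'.1.2) (sub_mem z.2.2 z'.2.2) h0
      exact Prod.ext (Subtype.ext (sub_eq_zero.mp e1)) (Subtype.ext (sub_eq_zero.mp e2))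
    have hsurj : Function.Surjective g :=
      (Nat.bijective_iff_injective_and_card g).mpr ⟨hg, by rw [Nat.card_prod, hcardV]⟩ |>.2
    refine LinearMap.ext fun v => ?_
    obtain ⟨⟨u, w⟩, rfl⟩ := hsurj v
    simp only [g, map_add, (hST u u.2).1, (hST w w.2).2]
  have hPne : ∃ v ∈ P, v ≠ (0 : V) := by
    by_contra hcon
    push Not at hcon
    have h0 : ∀ f ∈ F, L a f = 0 := fun f hf => hcon _ (Submodule.mem_inf.mpr ⟨hLF a ha f, by
      rw [LinearMap.mem_ker, LinearMap.sub_apply, hkey a ha hn f hf, sub_self]⟩)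
    refine hn (hB.mem_normalizer_of_map_eq_one ha (hext _ _ fun f hf => ⟨?_, ?_⟩))
    · rw [hfixF a ha f hf, Module.End.one_apply]
    · have := h0 f hf
      change nn ρ a (ρ d f) = 0 at this
      rwa [nn_apply, sub_eq_zero] at this
  have hNne : ∃ v ∈ N, v ≠ (0 : V) := by
    by_contra hcon
    push Not at hcon
    have h0 : ∀ f ∈ F, L a f = L b f := by
      intro f hf
      rw [hLb f hf]
      refine sub_eq_zero.mp (hcon _ (Submodule.mem_inf.mpr ⟨sub_mem (hLF a ha f) (hsF f hf), ?_⟩))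
      rw [LinearMap.mem_ker, map_sub, hkey a ha hn f hf, hsL a ha f, sub_self]
    have hab : ρ a = ρ b := hext _ _ fun f hf => ⟨by rw [hfixF a ha f hf, hfixF b hb.1 f hf], by
      have := h0 f hf
      change nn ρ a (ρ d f) = nn ρ b (ρ d f) at this
      rwa [nn_apply, nn_apply, sub_left_inj] at this⟩
    have h1 : a * b ∈ Subgroup.normalizer (K : Set G) := by
      refine hB.mem_normalizer_of_map_eq_one (mul_mem ha hb.1) ?_
      rw [map_mul, hab, ← map_mul, ← pow_two, ← hp2, hB.pow b hb.1, map_one]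
    exact hn (by simpa using mul_mem h1 (inv_mem hbn))
  obtain ⟨v1, hv1, hv1ne⟩ := hPne
  obtain ⟨v2, hv2, hv2ne⟩ := hNne
  have hv1' : L a v1 = s v1 := by
    have := hv1.2
    rwa [SetLike.mem_coe, LinearMap.mem_ker, LinearMap.sub_apply, sub_eq_zero] at this
  have hv2' : L a v2 = 0 := hv2.2
  have hBP : Nat.card B ≤ Nat.card C * Nat.card P := by
    refine hcount P (fun c => L a (L c v1)) v1 hv1.1 hv1ne (fun c hc => ?_) (fun c hc e he => ?_) ?_
    · exact Submodule.mem_inf.mpr ⟨hLF a ha _, by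
        rw [LinearMap.mem_ker, LinearMap.sub_apply, hkey a ha hn _ (hLF c hc.1 _), sub_self]⟩
    · show L a (L (c * e) v1) = L a (L c v1) + L a (L e v1)
      rw [hLadd c hc e he, map_add]
    · intro c hc h0
      have h1 := hexp c hc v1 hv1.1
      rw [h0, hv1', zero_add, ← hsL c hc.1, add_eq_left] at h1
      exact h1
  have hBN : Nat.card B ≤ Nat.card C * Nat.card N := by
    refine hcount N (fun c => L a (L c v2) - s (L c v2)) v2 hv2.1 hv2ne (fun c hc => ?_)
      (fun c hc e he => ?_) ?_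
    · refine Submodule.mem_inf.mpr ⟨sub_mem (hLF a ha _) (hsF _ (hLF c hc.1 _)), ?_⟩
      rw [LinearMap.mem_ker, map_sub, hkey a ha hn _ (hLF c hc.1 _), hsL a ha, sub_self]
    · show L a (L (c * e) v2) - s (L (c * e) v2) =
        (L a (L c v2) - s (L c v2)) + (L a (L e v2) - s (L e v2))
      rw [hLadd c hc e he, map_add, map_add]; abel
    · intro c hc h0
      have h1 := hexp c hc v2 hv2.1
      rw [hv2', map_zero, add_zero, sub_eq_zero.mp h0, add_eq_left] at h1
      exact h1
  have hdisj : P ⊓ N = ⊥ := by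
    rw [eq_bot_iff]
    rintro v ⟨hvP, hvN⟩
    have h1 : L a v = s v := by
      have := hvP.2
      rwa [SetLike.mem_coe, LinearMap.mem_ker, LinearMap.sub_apply, sub_eq_zero] at this
    rw [show L a v = 0 from hvN.2] at h1
    exact (Submodule.mem_bot (ZMod p)).mpr (hbij.1 (by rw [← h1, map_zero]))
  have hPN : Nat.card P * Nat.card N ≤ Nat.card ↥(P ⊔ N) := by
    refine (card_sup_le P N).trans ?_
    rw [hdisj]; simp
  have hsupF : Nat.card ↥(P ⊔ N) ≤ Nat.card F :=
    Nat.card_le_card_of_injective _ (Submodule.inclusion_injective (sup_le inf_le_left inf_le_left))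
  have hF4 : Nat.card F ≤ 4 := by
    have h1 : Nat.card C * Nat.card V ≤ (Nat.card B * 2) * Nat.card F := by
      refine (hB.card_bound hC).trans (Nat.mul_le_mul hAB ?_)
      refine Nat.card_le_card_of_injective _ (Submodule.inclusion_injective (fun v hv => ?_))
      rw [hF, LinearMap.mem_ker, nn_apply, hv b hb.1, sub_self]
    rw [hcardV, ← mul_assoc] at h1
    have h2 := Nat.le_of_mul_le_mul_right h1 Nat.card_pos
    have h3 : (Nat.card C * Nat.card F) * (Nat.card C * Nat.card F) ≤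
        (Nat.card C * Nat.card C * Nat.card F) * 4 := by
      calc _ ≤ (Nat.card B * 2) * (Nat.card B * 2) := Nat.mul_le_mul h2 h2
        _ = (Nat.card B * Nat.card B) * 4 := by ring
        _ ≤ ((Nat.card C * Nat.card P) * (Nat.card C * Nat.card N)) * 4 :=
          Nat.mul_le_mul_right _ (Nat.mul_le_mul hBP hBN)
        _ = (Nat.card C * Nat.card C * (Nat.card P * Nat.card N)) * 4 := by ring
        _ ≤ _ := Nat.mul_le_mul_right _ (Nat.mul_le_mul_left _ (hPN.trans hsupF))
    have h4 : (Nat.card C * Nat.card C * Nat.card F) * Nat.card F ≤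
        (Nat.card C * Nat.card C * Nat.card F) * 4 := by linarith
    exact Nat.le_of_mul_le_mul_left h4 (Nat.mul_pos (Nat.mul_pos Nat.card_pos Nat.card_pos) Nat.card_pos)
  have hP2 : 2 ≤ Nat.card P := by
    have : Nontrivial P := ⟨⟨v1, hv1⟩, 0, fun h => hv1ne (congrArg Subtype.val h)⟩
    exact Finite.one_lt_card
  have hN2 : 2 ≤ Nat.card N := by
    have : Nontrivial N := ⟨⟨v2, hv2⟩, 0, fun h => hv2ne (congrArg Subtype.val h)⟩
    exact Finite.one_lt_card
  have hPeq : Nat.card P = 2 := by nlinarith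
  have hNeq : Nat.card N = 2 := by nlinarith
  have hFsup : P ⊔ N = F := by
    refine SetLike.coe_injective (Set.eq_of_subset_of_ncard_le
      (sup_le inf_le_left inf_le_left : P ⊔ N ≤ F) ?_
      (Set.toFinite _))
    rw [← Nat.card_coe_set_eq, ← Nat.card_coe_set_eq]
    calc Nat.card F ≤ Nat.card P * Nat.card N := by rw [hPeq, hNeq]; exact hF4
      _ ≤ _ := hPN
  -- every trace is idempotent
  refine not_forall_pow_twelve hB.qs fun x hx => commute_of_map_commutator hB.qs ρ hB.nontriv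
    (fun y hy => mul_mem (mul_mem (pow_mem hx 12) hy) (inv_mem (pow_mem hx 12))) (fun y _ => ?_)
  have h12 : ρ (x ^ 12) = 1 := by
    set u := ρ x + ρ x⁻¹ with hu
    have htr : ∀ c ∈ A, c ∉ Subgroup.normalizer (K : Set G) → ρ c * u * ρ c⁻¹ = u := by
      intro c hc hcn
      have h := hB.trace_eq hp2 hc hcn hb.1 hbn (mul_nn_eq_zero hB.comm hb hc) hby hx
      rw [conj_inv, map_conj_eq, map_conj_eq] at h
      rw [hu, mul_add, add_mul, ← h]
    have hcomm_of : ∀ c : G, ρ c * u * ρ c⁻¹ = u → Commute u (ρ c) := by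
      intro c h
      show u * ρ c = ρ c * u
      conv_lhs => rw [← h]
      rw [mul_assoc, ← map_mul, inv_mul_cancel, map_one, mul_one]
    have hua : Commute u (ρ a) := hcomm_of a (htr a ha hn)
    have hab : a * b ∉ Subgroup.normalizer (K : Set G) := fun h =>
      hn (by simpa using mul_mem h (inv_mem hbn))
    have hub : Commute u (ρ b) := by
      have h1 := hcomm_of _ (htr _ (mul_mem ha hb.1) hab)
      have h2 := (hcomm_of _ (htr _ (inv_mem ha) (fun h => hn (by simpa using inv_mem h))))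
      have h3 := h2.mul_right h1
      rwa [← map_mul, inv_mul_cancel_left] at h3
    have hud : Commute u (ρ d) := by
      have h := hB.trace_eq hp2 ha hn hb.1 hbn (mul_nn_eq_zero hB.comm hb ha) hby hx
      rw [hu, h]
      have h1 := (hB.conj a ha hn d hd x hx).symm
      exact (h1.map ρ).add_left (h1.inv_left.map ρ)
    have huF : ∀ f ∈ F, u f ∈ F := by
      intro f hf
      rw [hF, LinearMap.mem_ker] at hf ⊢
      rw [← Module.End.mul_apply, ← (hub.sub_right (Commute.one_right _)).eq, Module.End.mul_apply,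
        hf, map_zero]
    have hus : Commute u s := hud.add_right (by
      have h1 : Commute (ρ d⁻¹) u := by
        show ρ d⁻¹ * u = u * ρ d⁻¹
        calc ρ d⁻¹ * u = ρ d⁻¹ * (u * ρ d) * ρ d⁻¹ := by
              rw [mul_assoc, mul_assoc u, ← map_mul, mul_inv_cancel, map_one, mul_one]
          _ = _ := by rw [hud.eq, ← mul_assoc, ← map_mul, inv_mul_cancel, map_one, one_mul]
      exact h1.symm)
    have huL : Commute u (L a) := (hua.sub_right (Commute.one_right _)).mul_right hud
    have hidem : ∀ X : Submodule (ZMod p) V, Nat.card X = 2 → (∀ v ∈ X, u v ∈ X) →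
        ∀ v ∈ X, u (u v) = u v := by
      intro X hX2 hXu v hv
      by_cases h0 : u v = 0
      · rw [h0, map_zero]
      · haveI := Fintype.ofFinite X
        rw [Nat.card_eq_fintype_card] at hX2
        have h3 : u v = v := by
          by_contra hne
          have hv0 : v ≠ 0 := fun h => h0 (by rw [h, map_zero])
          have : 2 < Fintype.card X := by
            rw [Fintype.two_lt_card_iff]
            exact ⟨⟨u v, hXu v hv⟩, ⟨v, hv⟩, 0, fun h => hne (congrArg Subtype.val h),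
              fun h => h0 (congrArg Subtype.val h), fun h => hv0 (congrArg Subtype.val h)⟩
          omega
        rw [h3, h3]
    have hPu : ∀ v ∈ P, u v ∈ P := fun v hv => Submodule.mem_inf.mpr ⟨huF v hv.1, by
      have h := hv.2
      rw [SetLike.mem_coe, LinearMap.mem_ker] at h
      rw [LinearMap.mem_ker, ← Module.End.mul_apply, ← (huL.sub_right hus).eq, Module.End.mul_apply,
        h, map_zero]⟩
    have hNu : ∀ v ∈ N, u v ∈ N := fun v hv => Submodule.mem_inf.mpr ⟨huF v hv.1, by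
      have h := hv.2
      rw [SetLike.mem_coe, LinearMap.mem_ker] at h
      rw [LinearMap.mem_ker, ← Module.End.mul_apply, ← huL.eq, Module.End.mul_apply, h, map_zero]⟩
    have huu : u * u = u := hext _ _ fun f hf => by
      have h1 : u (u f) = u f := by
        rw [← hFsup] at hf
        obtain ⟨v, hv, w, hw, rfl⟩ := Submodule.mem_sup.mp hf
        rw [map_add, map_add, hidem P hPeq hPu v hv, hidem N hNeq hNu w hw]
      refine ⟨h1, ?_⟩
      rw [Module.End.mul_apply, ← Module.End.mul_apply u (ρ d), hud.eq, Module.End.mul_apply,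
        ← Module.End.mul_apply u (ρ d), hud.eq, Module.End.mul_apply, h1]
    have h2 := end_two_eq_zero (V := V) hp2
    set e := ρ x
    set e' := ρ x⁻¹
    have he1 : e * e' = 1 := by simp only [e, e', ← map_mul, mul_inv_cancel, map_one]
    have he2 : e' * e = 1 := by simp only [e, e', ← map_mul, inv_mul_cancel, map_one]
    have key : e ^ 6 = 1 := by
      have h3 : (e * e * e * e - e * e * e - e + 1) = 0 := by
        have huv : (u * u - u) * (e * e) = 0 := by rw [huu, sub_self, zero_mul]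
        have : (u * u - u) * (e * e) = (e * e * e * e - e * e * e - e + 1) + 2 * (e * e) := by
          rw [hu]
          simp only [add_mul, mul_add, sub_mul, mul_assoc]
          simp only [← mul_assoc e' e, ← mul_assoc e e', he1, he2, one_mul]
          noncomm_ring
        rw [huv, h2, zero_mul, add_zero] at this
        exact this.symm
      calc e ^ 6 = (e * e + e + 1) * (e * e * e * e - e * e * e - e + 1) + 2 * (e ^ 3 - 1) + 1 := by
            noncomm_ring
        _ = 1 := by rw [h3, h2, mul_zero, zero_mul, zero_add, zero_add]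
    show ρ (x ^ 12) = 1
    rw [map_pow, show (12 : ℕ) = 6 * 2 from rfl, pow_mul, key, one_pow]
  have h12i : ρ (x ^ 12)⁻¹ = 1 := by
    have : ρ (x ^ 12)⁻¹ = ρ (x ^ 12)⁻¹ * ρ (x ^ 12) := by rw [h12, mul_one]
    rwa [← map_mul, inv_mul_cancel, map_one] at this
  rw [commutatorElement_def, map_mul, map_mul, map_mul, h12, h12i, one_mul, mul_one, ← map_mul,
    mul_inv_cancel, map_one]

end Bad

end CfsgLib.LocEven.PGV
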