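import Cfsg.Agent.Lib.LocEven.Card
import Mathlib.RepresentationTheory.Basic
import Mathlib.LinearAlgebra.Isomorphisms
import Mathlib.Data.ZMod.Basic

/-!
# Best offenders and the Timmesfeld replacement theorem
-/

namespace CfsgLib.LocEven.PGV

variable {G V : Type*} [Group G] [AddCommGroup V] {k : Type*} [CommRing k] [Module k V]

/-- `ρ g - 1`. -/
abbrev nn (ρ : Representation k G V) (g : G) : Module.End k V := ρ g - 1

variable (ρ : Representation k G V)

theorem nn_apply (g : G) (v : V) : nn ρ g v = ρ g v - v := rfl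

theorem nn_mul_left (g h : G) : nn ρ (g * h) = ρ g * nn ρ h + nn ρ g := by
  simp only [nn, map_mul, mul_sub, mul_one]; abel

theorem nn_mul_right (g h : G) : nn ρ (g * h) = nn ρ g * ρ h + nn ρ h := by
  simp only [nn, map_mul, sub_mul, one_mul]; abel

theorem nn_one : nn ρ (1 : G) = 0 := by simp [nn]

theorem nn_inv (g : G) : nn ρ g⁻¹ = - (ρ g⁻¹ * nn ρ g) := by
  simp only [nn, mul_sub, mul_one, ← map_mul, inv_mul_cancel, map_one]; abel

theorem nn_conj (g h : G) : nn ρ (g * h * g⁻¹) = ρ g * nn ρ h * ρ g⁻¹ := by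
  simp only [nn, map_mul, mul_sub, mul_one, sub_mul, ← map_mul ρ g g⁻¹, mul_inv_cancel, map_one]

theorem nn_commute {g h : G} (hc : Commute g h) : Commute (nn ρ g) (nn ρ h) :=
  ((hc.map ρ).sub_left (Commute.one_left _)).sub_right (Commute.one_right _)

/-- The subspace of vectors fixed by `B`. -/
def fix (B : Subgroup G) : Submodule k V where
  carrier := {v | ∀ b ∈ B, ρ b v = v}
  add_mem' := fun {x y} hx hy b hb => by rw [map_add, hx b hb, hy b hb]
  zero_mem' := fun b _ => map_zero _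
  smul_mem' := fun c {x} hx b hb => by rw [map_smul, hx b hb]

theorem mem_fix {B : Subgroup G} {v : V} : v ∈ fix ρ B ↔ ∀ b ∈ B, ρ b v = v := Iff.rfl

theorem fix_anti {B C : Subgroup G} (h : B ≤ C) : fix ρ C ≤ fix ρ B :=
  fun _ hv b hb => hv b (h hb)

theorem fix_inf_fix_le (B C : Subgroup G) : fix ρ B ⊓ fix ρ C ≤ fix ρ (B ⊔ C) := by
  rintro v ⟨hB, hC⟩ b hb
  let S : Subgroup G :=
    { carrier := {g | ρ g v = v}
      one_mem' := by simp
      mul_mem' := fun {g h} (hg : ρ g v = v) (hh : ρ h v = v) => by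
        show ρ (g * h) v = v
        rw [map_mul, Module.End.mul_apply, hh, hg]
      inv_mem' := fun {g} (hg : ρ g v = v) => by
        show ρ g⁻¹ v = v
        conv_lhs => rw [← hg]
        rw [← Module.End.mul_apply, ← map_mul, inv_mul_cancel, map_one, Module.End.one_apply] }
  exact (sup_le (fun g hg => hB g hg) (fun g hg => hC g hg) : B ⊔ C ≤ S) hb

theorem card_sup_le [Finite V] (P Q : Submodule k V) :
    Nat.card P * Nat.card Q ≤ Nat.card ↥(P ⊓ Q) * Nat.card ↥(P ⊔ Q) := by
  haveI : Finite (Multiplicative V) := Finite.of_equiv V Multiplicative.ofAdd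
  have h := CfsgLib.LocEven.card_mul_card_le_card_inf_mul_sup
    P.toAddSubgroup.toSubgroup Q.toAddSubgroup.toSubgroup
  have h1 : P.toAddSubgroup.toSubgroup ⊔ Q.toAddSubgroup.toSubgroup =
      (P ⊔ Q).toAddSubgroup.toSubgroup := by
    rw [Submodule.sup_toAddSubgroup, OrderIso.map_sup]
  rw [h1] at h
  exact h

/-- The best-offender condition. -/
def IsBest (A : Subgroup G) : Prop :=
  ∀ B : Subgroup G, B ≤ A →
    Nat.card B * Nat.card (fix ρ B) ≤ Nat.card A * Nat.card (fix ρ A)

/-- `C_A([V, A])`. -/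
def star (A : Subgroup G) : Subgroup G where
  carrier := {c | c ∈ A ∧ ∀ a ∈ A, nn ρ c * nn ρ a = 0}
  one_mem' := ⟨one_mem A, fun a _ => by rw [nn_one, zero_mul]⟩
  mul_mem' := fun {g h} hg hh => ⟨mul_mem hg.1 hh.1, fun a ha => by
    rw [nn_mul_left, add_mul, mul_assoc, hh.2 a ha, hg.2 a ha, mul_zero, add_zero]⟩
  inv_mem' := fun {g} hg => ⟨inv_mem hg.1, fun a ha => by
    rw [nn_inv, neg_mul, mul_assoc, hg.2 a ha, mul_zero, neg_zero]⟩

variable {ρ}

theorem star_le (A : Subgroup G) : star ρ A ≤ A := fun _ h => h.1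

theorem mul_nn_eq_zero {A : Subgroup G} (hcomm : ∀ a ∈ A, ∀ b ∈ A, Commute a b) {c a : G}
    (hc : c ∈ star ρ A) (ha : a ∈ A) : nn ρ a * nn ρ c = 0 := by
  rw [(nn_commute ρ (hcomm a ha c hc.1)).eq, hc.2 a ha]

/-- The Timmesfeld replacement theorem. -/
theorem star_spec [Finite G] [Finite V] {A : Subgroup G}
    (hcomm : ∀ a ∈ A, ∀ b ∈ A, Commute a b) (hA : IsBest ρ A) :
    Nat.card A * Nat.card (fix ρ A) ≤ Nat.card (star ρ A) * Nat.card (fix ρ (star ρ A)) ∧
      fix ρ (star ρ A) ≤ fix ρ A ⊔ ⨆ a ∈ A, LinearMap.range (nn ρ a) := by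
  classical
  let T : Submodule k V := fix ρ A ⊔ ⨆ a ∈ A, LinearMap.range (nn ρ a)
  let Good : Subgroup G → Prop := fun B => B ≤ A ∧
    Nat.card A * Nat.card (fix ρ A) ≤ Nat.card B * Nat.card (fix ρ B) ∧ fix ρ B ≤ T
  let Av : V → Subgroup G := fun v =>
    { carrier := {c | c ∈ A ∧ ∀ a ∈ A, nn ρ c (nn ρ a v) = 0}
      one_mem' := ⟨one_mem A, fun a _ => by rw [nn_one, LinearMap.zero_apply]⟩
      mul_mem' := fun {g h} hg hh => ⟨mul_mem hg.1 hh.1, fun a ha => by
        rw [nn_mul_left, LinearMap.add_apply, Module.End.mul_apply, hh.2 a ha, hg.2 a ha, map_zero,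
          add_zero]⟩
      inv_mem' := fun {g} hg => ⟨inv_mem hg.1, fun a ha => by
        rw [nn_inv, LinearMap.neg_apply, Module.End.mul_apply, hg.2 a ha, map_zero, neg_zero]⟩ }
  have hAv : ∀ v, Good (Av v) := by
    intro v
    let C := fix ρ A
    let W : Submodule k V := C ⊔ Submodule.span k ((fun a => nn ρ a v) '' (A : Set G))
    have hWfix : W ≤ fix ρ (Av v) := by
      refine sup_le (fix_anti ρ fun c hc => hc.1) (Submodule.span_le.mpr ?_)
      rintro _ ⟨a, ha, rfl⟩ c hc
      exact sub_eq_zero.mp (hc.2 a ha)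
    have hWT : W ≤ T := by
      refine sup_le le_sup_left (Submodule.span_le.mpr ?_)
      rintro _ ⟨a, ha, rfl⟩
      exact Submodule.mem_sup_right
        (Submodule.mem_iSup_of_mem a (Submodule.mem_iSup_of_mem ha ⟨v, rfl⟩))
    have hsep : ∀ a ∈ A, ∀ a' ∈ A, nn ρ a v - nn ρ a' v ∈ C → a⁻¹ * a' ∈ Av v := by
      intro a ha a' ha' hC
      refine ⟨mul_mem (inv_mem ha) ha', fun b hb => ?_⟩
      have h0 : nn ρ b (nn ρ a v) = nn ρ b (nn ρ a' v) := by
        rw [← sub_eq_zero, ← map_sub]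
        exact sub_eq_zero.mpr (hC b hb)
      have hsw : ∀ c ∈ A, nn ρ b (nn ρ c v) = nn ρ c (nn ρ b v) := fun c hc => by
        rw [← Module.End.mul_apply, (nn_commute ρ (hcomm b hb c hc)).eq, Module.End.mul_apply]
      rw [hsw a ha, hsw a' ha'] at h0
      simp only [nn_apply, sub_left_inj] at h0
      simp only [nn_apply, map_mul, Module.End.mul_apply]
      rw [← h0, ← Module.End.mul_apply (ρ a⁻¹), ← map_mul, inv_mul_cancel, map_one,
        Module.End.one_apply]
      exact sub_self _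
    -- the index bound
    let f : A → V ⧸ C := fun a => Submodule.Quotient.mk (nn ρ a v)
    have hf : ∀ a, f a ∈ W.map C.mkQ := fun a =>
      ⟨nn ρ a v, Submodule.mem_sup_right (Submodule.subset_span ⟨a, a.2, rfl⟩), rfl⟩
    have hidx : Nat.card (↥A ⧸ (Av v).subgroupOf A) ≤ Nat.card (W.map C.mkQ) := by
      haveI : Finite (V ⧸ C) := Finite.of_surjective _ (Submodule.Quotient.mk_surjective C)
      refine Nat.card_le_card_of_injective (fun q => (⟨f q.out, hf _⟩ : W.map C.mkQ)) ?_
      intro q q' hqq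
      have h1 := (Submodule.Quotient.eq C).mp (congrArg Subtype.val hqq)
      have h2 := hsep _ q.out.2 _ q'.out.2 h1
      rw [← QuotientGroup.out_eq' q, ← QuotientGroup.out_eq' q', QuotientGroup.eq]
      exact Subgroup.mem_subgroupOf.mpr h2
    have hcardA : Nat.card A = Nat.card (↥A ⧸ (Av v).subgroupOf A) * Nat.card (Av v) := by
      rw [Subgroup.card_eq_card_quotient_mul_card_subgroup ((Av v).subgroupOf A),
        Nat.card_congr (Subgroup.subgroupOfEquivOfLe (show Av v ≤ A from fun c hc => hc.1)).toEquiv]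
    have hcardW : Nat.card W = Nat.card (W.map C.mkQ) * Nat.card C := by
      let g := C.mkQ.domRestrict W
      have hr : LinearMap.range g = W.map C.mkQ := LinearMap.range_domRestrict W C.mkQ
      have hk : Nat.card (LinearMap.ker g) = Nat.card C := by
        refine Nat.card_congr
          { toFun := fun x => ⟨(x.1 : V), (Submodule.Quotient.mk_eq_zero C).mp x.2⟩
            invFun := fun x => ⟨⟨x, Submodule.mem_sup_left x.2⟩,
              (Submodule.Quotient.mk_eq_zero C).mpr x.2⟩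
            left_inv := fun _ => rfl
            right_inv := fun _ => rfl }
      rw [Submodule.card_eq_card_quotient_mul_card (LinearMap.ker g),
        Nat.card_congr g.quotKerEquivRange.toEquiv, hk, hr, mul_comm]
    have hle1 : Nat.card A * Nat.card C ≤ Nat.card (Av v) * Nat.card W := by
      rw [hcardA, hcardW]
      calc Nat.card (↥A ⧸ (Av v).subgroupOf A) * Nat.card (Av v) * Nat.card C
          ≤ Nat.card (W.map C.mkQ) * Nat.card (Av v) * Nat.card C := by gcongr
        _ = Nat.card (Av v) * (Nat.card (W.map C.mkQ) * Nat.card C) := by ring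
    have hWle : Nat.card W ≤ Nat.card (fix ρ (Av v)) :=
      Nat.card_le_card_of_injective _ (Submodule.inclusion_injective hWfix)
    have hbest := hA (Av v) fun c hc => hc.1
    refine ⟨fun c hc => hc.1, hle1.trans (Nat.mul_le_mul_left _ hWle), ?_⟩
    have heq : W = fix ρ (Av v) := by
      refine SetLike.coe_injective (Set.eq_of_subset_of_ncard_le hWfix ?_ (Set.toFinite _))
      rw [← Nat.card_coe_set_eq, ← Nat.card_coe_set_eq]
      exact Nat.le_of_mul_le_mul_left (hbest.trans hle1) Nat.card_pos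
    exact heq ▸ hWT
  have hAgood : Good A := ⟨le_rfl, le_rfl, le_sup_left⟩
  have hinf : ∀ B C, Good B → Good C → Good (B ⊓ C) := by
    rintro B C ⟨hB, hBm, hBT⟩ ⟨hC, hCm, hCT⟩
    set M := Nat.card A * Nat.card (fix ρ A) with hM
    have h1 := CfsgLib.LocEven.card_mul_card_le_card_inf_mul_sup B C
    have h2 := card_sup_le (fix ρ B) (fix ρ C)
    have h3 : Nat.card ↥(fix ρ B ⊓ fix ρ C) ≤ Nat.card (fix ρ (B ⊔ C)) :=
      Nat.card_le_card_of_injective _ (Submodule.inclusion_injective (fix_inf_fix_le ρ B C))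
    have h4 : Nat.card ↥(B ⊔ C) * Nat.card (fix ρ (B ⊔ C)) ≤ M := hA _ (sup_le hB hC)
    have hsup : fix ρ B ⊔ fix ρ C ≤ fix ρ (B ⊓ C) :=
      sup_le (fix_anti ρ inf_le_left) (fix_anti ρ inf_le_right)
    have h5 : Nat.card ↥(B ⊓ C) * Nat.card (fix ρ (B ⊓ C)) ≤ M := hA _ (inf_le_left.trans hB)
    have h6 : M ≤ Nat.card ↥(B ⊓ C) * Nat.card ↥(fix ρ B ⊔ fix ρ C) := by
      refine Nat.le_of_mul_le_mul_left (a := M) ?_ (Nat.mul_pos (Nat.card_pos (α := A)) (Nat.card_pos (α := fix ρ A)))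
      calc M * M ≤ (Nat.card B * Nat.card (fix ρ B)) * (Nat.card C * Nat.card (fix ρ C)) :=
            Nat.mul_le_mul hBm hCm
        _ = (Nat.card B * Nat.card C) * (Nat.card (fix ρ B) * Nat.card (fix ρ C)) := by ring
        _ ≤ (Nat.card ↥(B ⊓ C) * Nat.card ↥(B ⊔ C)) *
              (Nat.card ↥(fix ρ (B ⊔ C)) * Nat.card ↥(fix ρ B ⊔ fix ρ C)) :=
            Nat.mul_le_mul h1 (h2.trans (Nat.mul_le_mul_right _ h3))
        _ = (Nat.card ↥(B ⊔ C) * Nat.card ↥(fix ρ (B ⊔ C))) *
              (Nat.card ↥(B ⊓ C) * Nat.card ↥(fix ρ B ⊔ fix ρ C)) := by ring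
        _ ≤ M * (Nat.card ↥(B ⊓ C) * Nat.card ↥(fix ρ B ⊔ fix ρ C)) :=
            Nat.mul_le_mul_right _ h4
    have heq : fix ρ B ⊔ fix ρ C = fix ρ (B ⊓ C) := by
      refine SetLike.coe_injective (Set.eq_of_subset_of_ncard_le hsup ?_ (Set.toFinite _))
      rw [← Nat.card_coe_set_eq, ← Nat.card_coe_set_eq]
      exact Nat.le_of_mul_le_mul_left (h5.trans h6) Nat.card_pos
    exact ⟨inf_le_left.trans hB,
      h6.trans (Nat.mul_le_mul_left _ (heq ▸ le_rfl)), heq ▸ sup_le hBT hCT⟩
  haveI := Fintype.ofFinite V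
  have hall : ∀ s : Finset V, Good (A ⊓ s.inf Av) := by
    intro s
    induction s using Finset.induction_on with
    | empty => simpa using hAgood
    | insert v s _ ih =>
      rw [Finset.inf_insert, inf_left_comm]
      exact hinf _ _ (hAv v) ih
  have hstar : star ρ A = A ⊓ (Finset.univ : Finset V).inf Av := by
    refine le_antisymm (le_inf (star_le A) (Finset.le_inf fun v _ c hc => ⟨hc.1, fun a ha => ?_⟩)) ?_
    · rw [← Module.End.mul_apply, hc.2 a ha, LinearMap.zero_apply]
    · rintro c ⟨hcA, hc⟩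
      refine ⟨hcA, fun a ha => LinearMap.ext fun v => ?_⟩
      exact ((Finset.inf_le (f := Av) (Finset.mem_univ v)) hc).2 a ha
  obtain ⟨-, h1, h2⟩ := hall Finset.univ
  rw [hstar]
  exact ⟨h1, h2⟩

/-- If `V` is `C_V(A) + [V, A]` then `A` acts trivially. -/
theorem eq_one_of_sup_eq_top {A : Subgroup G} [Finite G] (hcomm : ∀ a ∈ A, ∀ b ∈ A, Commute a b)
    {e : ℕ} (hnil : ∀ a ∈ A, nn ρ a ^ e = 0)
    (h : fix ρ A ⊔ ⨆ a ∈ A, LinearMap.range (nn ρ a) = ⊤) : ∀ a ∈ A, ρ a = 1 := by
  classical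
  haveI := Fintype.ofFinite G
  have key : ∀ s : Finset G, (∀ a ∈ s, a ∈ A) →
      fix ρ A ⊔ ⨆ a ∈ s, LinearMap.range (nn ρ a) = ⊤ → fix ρ A = ⊤ := by
    intro s
    induction s using Finset.induction_on with
    | empty => intro _ h; simpa using h
    | insert b s hb ih =>
      intro hs htop
      have hbA : b ∈ A := hs b (Finset.mem_insert_self b s)
      have hs' : ∀ a ∈ s, a ∈ A := fun a ha => hs a (Finset.mem_insert_of_mem ha)
      refine ih hs' ?_
      set W : Submodule k V := fix ρ A ⊔ ⨆ a ∈ s, LinearMap.range (nn ρ a) with hW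
      have hWb : W.map (nn ρ b) ≤ W := by
        rw [hW, Submodule.map_sup]
        refine sup_le_sup ?_ ?_
        · rintro _ ⟨v, hv, rfl⟩
          rw [nn_apply, hv b hbA, sub_self]
          exact zero_mem _
        · simp only [Submodule.map_iSup]
          refine iSup_mono fun a => iSup_mono fun ha => ?_
          rintro _ ⟨_, ⟨v, rfl⟩, rfl⟩
          refine ⟨nn ρ b v, ?_⟩
          rw [← Module.End.mul_apply, (nn_commute ρ (hcomm a (hs' a ha) b hbA)).eq,
            Module.End.mul_apply]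
      have htop' : W ⊔ LinearMap.range (nn ρ b) = ⊤ := by
        rw [← htop, hW, Finset.iSup_insert]
        ac_rfl
      have hstep : ∀ i, W ⊔ LinearMap.range (nn ρ b ^ i) = ⊤ := by
        intro i
        induction i with
        | zero => simp [Module.End.one_eq_id]
        | succ i ihi =>
          rw [eq_top_iff, ← htop']
          refine sup_le le_sup_left ?_
          rintro _ ⟨v, rfl⟩
          obtain ⟨w, hw, _, ⟨u, rfl⟩, rfl⟩ :=
            Submodule.mem_sup.mp (ihi ▸ Submodule.mem_top : v ∈ W ⊔ _)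
          rw [map_add]
          exact add_mem (Submodule.mem_sup_left (hWb ⟨w, hw, rfl⟩))
            (Submodule.mem_sup_right ⟨u, by rw [pow_succ', Module.End.mul_apply]⟩)
      have := hstep e
      rwa [hnil b hbA, LinearMap.range_zero, sup_bot_eq] at this
  have hfix : fix ρ A = ⊤ := by
    refine key (Finset.univ.filter (· ∈ A)) (fun a ha => (Finset.mem_filter.mp ha).2) ?_
    rw [← h]
    simp
  intro a ha
  refine LinearMap.ext fun v => ?_
  exact (hfix ▸ Submodule.mem_top : v ∈ fix ρ A) a ha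

end CfsgLib.LocEven.PGV
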