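import Cfsg.Agent.Lib.Components.Quasisimple
import Cfsg.Agent.Lib.Char.Burnside
import Mathlib.GroupTheory.PGroup

/-!
# A quasisimple subgroup under a homomorphism into a monoid
-/

namespace CfsgLib.LocEven.PGV

open Subgroup
open scoped commutatorElement

variable {G M : Type*} [Group G] [Monoid M] {K : Subgroup G}

theorem le_of_normalized (hK : Cfsg.IsQuasisimple K) (S : Subgroup G)
    (hS : ∀ y ∈ K, ∀ g ∈ K, g ∈ S → y * g * y⁻¹ ∈ S) {x : G} (hxK : x ∈ K) (hxS : x ∈ S)
    (hx : ∃ y ∈ K, ¬ Commute x y) : K ≤ S := by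
  have hn : (S.subgroupOf K).Normal := ⟨fun g hg y => hS y y.2 g g.2 hg⟩
  rcases CfsgLib.Components.quasisimple_normal_top_or_central hK hn with h | h
  · exact Subgroup.subgroupOf_eq_top.mp h
  · obtain ⟨y, hy, hxy⟩ := hx
    exact absurd (congrArg Subtype.val
      (Subgroup.mem_center_iff.mp (h (show (⟨x, hxK⟩ : K) ∈ S.subgroupOf K from hxS)) ⟨y, hy⟩)).symm
      hxy

/-- An element of `K` all whose commutators with `K` are central in `K` is central. -/
theorem commute_of_commutator_central (hK : Cfsg.IsQuasisimple K) {x : G}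
    (hxn : ∀ y ∈ K, x * y * x⁻¹ ∈ K)
    (h : ∀ y ∈ K, ∀ z ∈ K, Commute ⁅x, y⁆ z) : ∀ y ∈ K, Commute x y := by
  have hmul : ∀ y ∈ K, ∀ z ∈ K, ⁅x, y * z⁆ = ⁅x, y⁆ * ⁅x, z⁆ := by
    intro y hy z hz
    rw [commutatorElement_mul_right_eq_mul_conj, mul_assoc, mul_assoc]
    congr 1
    rw [← mul_assoc, ← (h z hz y hy).eq, mul_inv_cancel_right]
  have hmem : ∀ y ∈ K, ⁅x, y⁆ ∈ K := fun y hy => by
    rw [commutatorElement_def]
    exact mul_mem (hxn y hy) (inv_mem hy)
  let f : K →* K :=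
    { toFun := fun y => ⟨⁅x, (y : G)⁆, hmem y y.2⟩
      map_one' := Subtype.ext (by simp)
      map_mul' := fun y z => Subtype.ext (hmul y y.2 z z.2) }
  haveI := hK.1
  have hker : f.ker = ⊤ := by
    have hc : commutator K = ⊤ := Group.IsPerfect.commutator_eq_top
    rw [eq_top_iff, ← hc, commutator_def, Subgroup.commutator_le]
    intro a _ b _
    rw [MonoidHom.mem_ker, map_commutatorElement, commutatorElement_eq_one_iff_mul_comm]
    exact Subtype.ext (h a a.2 _ (hmem b b.2))
  intro y hy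
  have h1 : (⟨y, hy⟩ : K) ∈ f.ker := by rw [hker]; exact Subgroup.mem_top _
  have := congrArg Subtype.val (MonoidHom.mem_ker.mp h1)
  exact commutatorElement_eq_one_iff_mul_comm.mp this

theorem commute_of_map_commutator (hK : Cfsg.IsQuasisimple K) (φ : G →* M)
    (hnt : ∃ k ∈ K, φ k ≠ 1) {x : G} (hxn : ∀ y ∈ K, x * y * x⁻¹ ∈ K)
    (h : ∀ y ∈ K, φ ⁅x, y⁆ = 1) : ∀ y ∈ K, Commute x y := by
  refine commute_of_commutator_central hK hxn fun y hy z hz => ?_
  by_contra hne
  obtain ⟨k, hk, hk1⟩ := hnt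
  refine hk1 (MonoidHom.mem_ker.mp (le_of_normalized hK φ.ker
    (fun a _ g _ hg => φ.normal_ker.conj_mem g hg a) ?_ (MonoidHom.mem_ker.mpr (h y hy))
    ⟨z, hz, hne⟩ hk))
  rw [commutatorElement_def]
  exact mul_mem (hxn y hy) (inv_mem hy)

/-- If the image of `K` is commutative then it is trivial. -/
theorem map_eq_one_of_comm (hK : Cfsg.IsQuasisimple K) (φ : G →* M)
    (h : ∀ x ∈ K, ∀ y ∈ K, φ x * φ y = φ y * φ x) : ∀ k ∈ K, φ k = 1 := by
  haveI := hK.1
  have hle : K ≤ φ.ker := by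
    have hc : commutator K = ⊤ := Group.IsPerfect.commutator_eq_top
    have : commutator K ≤ φ.ker.subgroupOf K := by
      rw [commutator_def, Subgroup.commutator_le]
      intro a _ b _
      rw [Subgroup.mem_subgroupOf, MonoidHom.mem_ker]
      show φ ((a : G) * b * (a : G)⁻¹ * (b : G)⁻¹) = 1
      rw [map_mul, map_mul, map_mul, h a a.2 b b.2, mul_assoc (φ b), ← map_mul φ (a : G),
        mul_inv_cancel, map_one, mul_one, ← map_mul, mul_inv_cancel, map_one]
    intro k hk
    exact this (show (⟨k, hk⟩ : K) ∈ commutator K from hc ▸ Subgroup.mem_top _)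
  exact fun k hk => MonoidHom.mem_ker.mp (hle hk)

/-- Some element of order prime to `p` has a commutator with `K` outside the kernel. -/
theorem exists_coprime_noncentral [Finite G] (hK : Cfsg.IsQuasisimple K) (φ : G →* M)
    (hnt : ∃ k ∈ K, φ k ≠ 1) (p : ℕ) [hp : Fact p.Prime] :
    ∃ x ∈ K, (orderOf x).Coprime p ∧ ∃ y ∈ K, φ ⁅x, y⁆ ≠ 1 := by
  by_contra hcon
  push Not at hcon
  have hcen : ∀ x ∈ K, (orderOf x).Coprime p → ∀ y ∈ K, Commute x y := fun x hx hxo =>
    commute_of_map_commutator hK φ hnt (fun y hy => mul_mem (mul_mem hx hy) (inv_mem hx))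
      (hcon x hx hxo)
  have hq : IsPGroup p (K ⧸ Subgroup.center K) := by
    intro q
    obtain ⟨g, rfl⟩ := QuotientGroup.mk_surjective q
    obtain ⟨e, m, hm, hom⟩ := Nat.exists_eq_pow_mul_and_not_dvd (orderOf_pos g).ne' p hp.out.ne_one
    refine ⟨e, ?_⟩
    rw [← QuotientGroup.mk_pow, QuotientGroup.eq_one_iff, Subgroup.mem_center_iff]
    intro z
    have ho : (orderOf ((g ^ p ^ e : K) : G)).Coprime p := by
      rw [Subgroup.orderOf_coe, orderOf_pow' _ (pow_ne_zero _ hp.out.ne_zero), hom,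
        Nat.gcd_mul_right_left, Nat.mul_div_cancel_left _ (pow_pos hp.out.pos _)]
      exact ((Nat.Prime.coprime_iff_not_dvd hp.out).mpr hm).symm
    exact (Subtype.ext (hcen _ (g ^ p ^ e).2 ho z z.2).eq).symm
  haveI : Group.IsNilpotent (K ⧸ Subgroup.center K) := hq.isNilpotent
  haveI : Group.IsSolvable (K ⧸ Subgroup.center K) := inferInstance
  haveI : Group.IsSolvable ↥(Subgroup.center K) :=
    Group.isSolvable_of_comm fun a b => Subtype.ext (Subgroup.mem_center_iff.mp b.2 a)
  exact CfsgLib.Components.quasisimple_not_isSolvable hK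
    (Group.isSolvable_of_ker_le_range (Subgroup.center K).subtype
      (QuotientGroup.mk' (Subgroup.center K)) (by simp))

/-- The exponent of `K` modulo its centre does not divide `12`. -/
theorem not_forall_pow_twelve [Finite G] (hK : Cfsg.IsQuasisimple K) :
    ¬ ∀ x ∈ K, ∀ y ∈ K, Commute (x ^ 12) y := by
  intro h
  haveI : Group.IsSolvable (K ⧸ Subgroup.center K) := by
    refine CfsgLib.Char.isSolvable_of_two_primes 2 3 Nat.prime_two Nat.prime_three _ _ rfl ?_
    intro r hr hdvd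
    haveI : Fact r.Prime := ⟨hr⟩
    obtain ⟨q, hq⟩ := exists_prime_orderOf_dvd_card' r hdvd
    obtain ⟨g, rfl⟩ := QuotientGroup.mk_surjective q
    have h12 : ((g : K ⧸ Subgroup.center K)) ^ 12 = 1 := by
      rw [← QuotientGroup.mk_pow, QuotientGroup.eq_one_iff, Subgroup.mem_center_iff]
      exact fun z => (Subtype.ext (h _ g.2 z z.2).eq).symm
    have hr12 : r ∣ 2 ^ 2 * 3 := by
      rw [← hq]
      exact orderOf_dvd_of_pow_eq_one h12
    rcases hr.dvd_mul.mp hr12 with h2 | h3
    · exact Or.inl ((Nat.prime_dvd_prime_iff_eq hr Nat.prime_two).mp (hr.dvd_of_dvd_pow h2))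
    · exact Or.inr ((Nat.prime_dvd_prime_iff_eq hr Nat.prime_three).mp h3)
  haveI : Group.IsSolvable ↥(Subgroup.center K) :=
    Group.isSolvable_of_comm fun a b => Subtype.ext (Subgroup.mem_center_iff.mp b.2 a)
  exact CfsgLib.Components.quasisimple_not_isSolvable hK
    (Group.isSolvable_of_ker_le_range (Subgroup.center K).subtype
      (QuotientGroup.mk' (Subgroup.center K)) (by simp))

end CfsgLib.LocEven.PGV
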