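import Cfsg.Agent.Lib.LocEven.PGV.Algebra
import Cfsg.Agent.Lib.LocEven.PGV.Quasi
import Cfsg.Agent.Lib.LocEven.PGV.Offender
import Cfsg.Prelude.Def_Transfer

/-!
# An element of an elementary abelian group moving a quasisimple subgroup
-/

namespace CfsgLib.LocEven.PGV

open scoped commutatorElement

variable {G V : Type*} [Group G] [Finite G] [AddCommGroup V] {p : ℕ} [hp : Fact p.Prime]
  [Module (ZMod p) V]

/-- `A` acts on `K` permuting commuting conjugates, and `K` acts nontrivially. -/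
structure Ctx (ρ : Representation (ZMod p) G V) (A K : Subgroup G) : Prop where
  comm : ∀ a ∈ A, ∀ b ∈ A, Commute a b
  pow : ∀ a ∈ A, a ^ p = 1
  qs : Cfsg.IsQuasisimple K
  conj : ∀ a ∈ A, a ∉ Subgroup.normalizer (K : Set G) →
    ∀ x ∈ K, ∀ y ∈ K, Commute x (a * y * a⁻¹)
  nontriv : ∃ k ∈ K, ρ k ≠ 1

variable {ρ : Representation (ZMod p) G V} {A K : Subgroup G}

omit [Finite G] in
theorem map_conj_eq (g h : G) : ρ (g * h * g⁻¹) = ρ g * ρ h * ρ g⁻¹ := by rw [map_mul, map_mul]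

omit [Finite G] in
theorem cast_p_eq_zero : (p : Module.End (ZMod p) V) = 0 := natCast_end_eq_zero p

/-- The subgroup of elements fixing the image of an operator. -/
def fixOp (ρ : Representation (ZMod p) G V) (T : Module.End (ZMod p) V) : Subgroup G where
  carrier := {g | ρ g * T = T}
  one_mem' := by simp
  mul_mem' := fun {g h} (hg : ρ g * T = T) (hh : ρ h * T = T) => by
    show ρ (g * h) * T = T
    rw [map_mul, mul_assoc, hh, hg]
  inv_mem' := fun {g} (hg : ρ g * T = T) => by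
    show ρ g⁻¹ * T = T
    conv_lhs => rw [← hg]
    rw [← mul_assoc, ← map_mul, inv_mul_cancel, map_one, one_mul]

/-- The product of the first `n` conjugates of `x` under the powers of `a`. -/
def orb (a : G) : ℕ → G → G
  | 0, _ => 1
  | n + 1, x => x * (a * orb a n x * a⁻¹)

omit [Finite G] in
theorem orb_succ' (a : G) : ∀ (n : ℕ) (x : G), orb a (n + 1) x = orb a n x * (a ^ n * x * (a ^ n)⁻¹)
  | 0, x => by simp [orb]
  | n + 1, x => by
    show x * (a * orb a (n + 1) x * a⁻¹) = _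
    conv_lhs => rw [orb_succ' a n x]
    rw [pow_succ']
    show _ = x * (a * orb a n x * a⁻¹) * _
    group

omit [Finite G] in
theorem commute_orb (a : G) {g x : G} : ∀ (n i : ℕ),
    (∀ k, i ≤ k → k < i + n → Commute g (a ^ k * x * (a ^ k)⁻¹)) →
    Commute g (a ^ i * orb a n x * (a ^ i)⁻¹)
  | 0, i, _ => by simp [orb]
  | n + 1, i, h => by
    have h2 := commute_orb a n (i + 1) fun k hk hk' => h k (by omega) (by omega)
    have h1 := h i le_rfl (by omega)
    have : a ^ i * orb a (n + 1) x * (a ^ i)⁻¹ =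
        (a ^ i * x * (a ^ i)⁻¹) * (a ^ (i + 1) * orb a n x * (a ^ (i + 1))⁻¹) := by
      simp only [orb, pow_succ]
      group
    rw [this]
    exact h1.mul_right h2

omit [Finite G] in
theorem orb_mem_fixOp (a : G) {x : G} {T : Module.End (ZMod p) V} : ∀ (n i : ℕ),
    (∀ k, i ≤ k → k < i + n → a ^ k * x * (a ^ k)⁻¹ ∈ fixOp ρ T) →
    a ^ i * orb a n x * (a ^ i)⁻¹ ∈ fixOp ρ T
  | 0, i, _ => by simp [orb, one_mem]
  | n + 1, i, h => by
    have h2 := orb_mem_fixOp a n (i + 1) fun k hk hk' => h k (by omega) (by omega)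
    have h1 := h i le_rfl (by omega)
    have : a ^ i * orb a (n + 1) x * (a ^ i)⁻¹ =
        (a ^ i * x * (a ^ i)⁻¹) * (a ^ (i + 1) * orb a n x * (a ^ (i + 1))⁻¹) := by
      simp only [orb, pow_succ]
      group
    rw [this]
    exact mul_mem h1 h2

namespace Ctx

variable (hc : Ctx ρ A K)
include hc

theorem conj_mem {a : G} (ha : a ∈ Subgroup.normalizer (K : Set G)) {y : G} (hy : y ∈ K) :
    a * y * a⁻¹ ∈ K := (Subgroup.mem_normalizer_iff.mp ha y).mp hy

theorem mem_normalizer_of_map_eq_one {a : G} (ha : a ∈ A) (h1 : ρ a = 1) :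
    a ∈ Subgroup.normalizer (K : Set G) := by
  by_contra hn
  obtain ⟨k, hk, hk1⟩ := hc.nontriv
  refine hk1 (map_eq_one_of_comm hc.qs ρ (fun x hx y hy => ?_) k hk)
  have h := ((hc.conj a ha hn x hx y hy).map ρ).eq
  have hay : ρ (a * y * a⁻¹) = ρ y := by
    rw [map_mul, map_mul, h1, one_mul]
    conv_rhs => rw [← mul_one (ρ y), ← map_one ρ, ← mul_inv_cancel a, map_mul, h1, one_mul]
  rwa [hay] at h

theorem commute_conj {c e : G} (hcA : c ∈ A) (heA : e ∈ A)
    (hce : c⁻¹ * e ∉ Subgroup.normalizer (K : Set G)) {x y : G} (hx : x ∈ K) (hy : y ∈ K) :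
    Commute (c * x * c⁻¹) (e * y * e⁻¹) := by
  have h := (hc.conj _ (mul_mem (inv_mem hcA) heA) hce x hx y hy).map (MulAut.conj c).toMonoidHom
  simp only [MulEquiv.toMonoidHom_eq_coe, MonoidHom.coe_coe, MulAut.conj_apply] at h
  convert h using 1
  group

theorem pow_notMem {a : G} (ha : a ∈ A) (hn : a ∉ Subgroup.normalizer (K : Set G)) {i : ℕ}
    (hi : ¬ p ∣ i) : a ^ i ∉ Subgroup.normalizer (K : Set G) := by
  intro h
  have hco : i.Coprime (orderOf a) := by
    have h1 : i.Coprime p := ((Nat.Prime.coprime_iff_not_dvd hp.out).mpr hi).symm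
    exact h1.coprime_dvd_right (orderOf_dvd_of_pow_eq_one (hc.pow a ha))
  obtain ⟨m, hm⟩ := exists_pow_eq_self_of_coprime hco
  exact hn (hm ▸ pow_mem h m)

theorem commute_pow_conj {a : G} (ha : a ∈ A) (hn : a ∉ Subgroup.normalizer (K : Set G))
    {i j : ℕ} (hij : i ≠ j) (hi : i < p) (hj : j < p) {x y : G} (hx : x ∈ K) (hy : y ∈ K) :
    Commute (a ^ i * x * (a ^ i)⁻¹) (a ^ j * y * (a ^ j)⁻¹) := by
  rcases Nat.lt_or_gt_of_ne hij with h | h
  · refine hc.commute_conj (pow_mem ha i) (pow_mem ha j) ?_ hx hy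
    obtain ⟨d, rfl⟩ := Nat.exists_eq_add_of_le h.le
    rw [pow_add, inv_mul_cancel_left]
    exact hc.pow_notMem ha hn (fun hd => by
      have := Nat.le_of_dvd (by omega) hd
      omega)
  · refine (hc.commute_conj (pow_mem ha j) (pow_mem ha i) ?_ hy hx).symm
    obtain ⟨d, rfl⟩ := Nat.exists_eq_add_of_le h.le
    rw [pow_add, inv_mul_cancel_left]
    exact hc.pow_notMem ha hn (fun hd => by
      have := Nat.le_of_dvd (by omega) hd
      omega)

theorem commute_base {a : G} (ha : a ∈ A) (hn : a ∉ Subgroup.normalizer (K : Set G))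
    {i : ℕ} (hi0 : 1 ≤ i) (hi : i < p) {x y : G} (hx : x ∈ K) (hy : y ∈ K) :
    Commute x (a ^ i * y * (a ^ i)⁻¹) := by
  have h := hc.commute_pow_conj ha hn (i := 0) (j := i) (by omega) (by omega) hi hx hy
  simpa using h

/-- An element of order prime to `p` that does not act centrally. -/
theorem exists_x : ∃ x ∈ K, (orderOf x).Coprime p ∧ ∃ y ∈ K, ρ ⁅x, y⁆ ≠ 1 :=
  exists_coprime_noncentral hc.qs ρ hc.nontriv p

theorem eq_one_of_commute {x : G} (hx : x ∈ K) (h : ∀ y ∈ K, Commute (ρ x) (ρ y)) :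
    ∀ y ∈ K, ρ ⁅x, y⁆ = 1 := by
  intro y hy
  rw [commutatorElement_def, map_mul, map_mul, map_mul, (h y hy).eq, mul_assoc (ρ y), ← map_mul ρ x,
    mul_inv_cancel, map_one, mul_one, ← map_mul, mul_inv_cancel, map_one]

theorem exists_commutator_noncentral {x : G} (hx : x ∈ K) (hxy : ∃ y ∈ K, ρ ⁅x, y⁆ ≠ 1) :
    ∃ y ∈ K, ∃ z ∈ K, ¬ Commute ⁅x⁻¹, y⁆ z := by
  by_contra hcon
  push Not at hcon
  obtain ⟨y, hy, hne⟩ := hxy
  have := commute_of_commutator_central hc.qs (x := x⁻¹)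
    (fun w hw => mul_mem (mul_mem (inv_mem hx) hw) (inv_mem (inv_mem hx))) hcon y hy
  refine hne ?_
  rw [commutatorElement_eq_one_iff_mul_comm.mpr (Commute.inv_left_iff.mp this).eq, map_one]

/-- For odd `p` a quadratic element cannot move `K`. -/
theorem quadratic_mem_normalizer (hp2 : p ≠ 2) {a : G} (ha : a ∈ A) (hq : nn ρ a * nn ρ a = 0) :
    a ∈ Subgroup.normalizer (K : Set G) := by
  by_contra hn
  have hp3 : 2 < p := lt_of_le_of_ne hp.out.two_le (Ne.symm hp2)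
  set n := nn ρ a with hn'
  have hA1 : ρ a = 1 + n := by rw [hn', nn, add_sub_cancel]
  have hA2 : ρ a⁻¹ = 1 - n := by
    have h1 : ρ a * (1 - n) = 1 := by
      rw [hA1, mul_sub, mul_one, add_mul, one_mul, hq]; abel
    calc ρ a⁻¹ = ρ a⁻¹ * (ρ a * (1 - n)) := by rw [h1, mul_one]
      _ = 1 - n := by rw [← mul_assoc, ← map_mul, inv_mul_cancel, map_one, one_mul]
  have hu' : ∀ x : G, ρ (a * x * a⁻¹) = ρ x + (n * ρ x - ρ x * n) - n * ρ x * n := by
    intro x
    rw [map_conj_eq, hA1, hA2]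
    noncomm_ring
  have hm : ∀ (g x : G), ρ (g * x * g⁻¹) ^ orderOf x = 1 := fun g x => by
    rw [← map_pow, conj_pow, pow_orderOf_eq_one, mul_one, mul_inv_cancel, map_one]
  have hcomm1 : ∀ x ∈ K, ∀ y ∈ K, Commute (ρ (a * x * a⁻¹)) (ρ y) := by
    intro x hx y hy
    have h := hc.commute_base ha hn (i := 1) le_rfl (by omega) hy hx
    rw [pow_one] at h
    exact (h.map ρ).symm
  -- `n e n = 0`
  have hnen : ∀ x ∈ K, (orderOf x).Coprime p → n * ρ x * n = 0 := by
    intro x hx hxo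
    set v := ρ (a ^ 2 * x * (a ^ 2)⁻¹) with hv
    set e := ρ x with he
    set u := ρ (a * x * a⁻¹) with hu
    have hv' : v = (1 + n) * u * (1 - n) := by
      rw [hu, ← hA1, ← hA2, ← map_mul, ← map_mul, hv]
      congr 1
      rw [pow_two]
      group
    have c1 : Commute v u := by
      have h := (hc.commute_pow_conj ha hn (i := 2) (j := 1) (by omega) (by omega) (by omega) hx hx)
      rw [pow_one] at h
      exact h.map ρ
    have c2 : Commute v e := ((hc.commute_base ha hn (i := 2) (by omega) hp3 hx hx).map ρ).symm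
    have c3 : Commute u e := hcomm1 x hx x hx
    have hem : e ^ orderOf x = 1 := by rw [he, ← map_pow, pow_orderOf_eq_one, map_one]
    have hd : v - u - u + e = -(2 • (n * e * n)) := by
      rw [hv', hu, hu' x, ← he]
      simp only [mul_add, add_mul, mul_sub, sub_mul, mul_one, one_mul, mul_assoc, hq, mul_zero,
        ← mul_assoc n n, zero_mul]
      abel
    have hzero : v - u - u + e = 0 := by
      refine add_sub_eq_zero_of_sq (p := p) cast_p_eq_zero hxo (hm _ x) (hm _ x) hem c1 c2 c3 ?_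
      rw [hd]
      have : n * e * n * (n * e * n) = 0 := by
        rw [mul_assoc (n * e) n, ← mul_assoc n (n * e) n, ← mul_assoc n n e, hq]
        simp
      rw [neg_mul_neg, smul_mul_smul_comm, this, smul_zero]
    have h2 : (2 • (n * e * n)) = 0 := by
      rw [hzero] at hd
      exact neg_eq_zero.mp hd.symm
    obtain ⟨m, hm2⟩ : Odd p := hp.out.odd_of_ne_two hp2
    have hp0 : p • (n * e * n) = 0 := by
      rw [nsmul_eq_mul, cast_p_eq_zero, zero_mul]
    have hp1 : (2 * m + 1) • (n * e * n) = 0 := by rw [← hm2]; exact hp0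
    rwa [add_smul, one_smul, mul_smul, smul_comm, h2, smul_zero, zero_add] at hp1
  obtain ⟨x, hx, hxo, y₀, hy₀, hne⟩ := hc.exists_x
  refine hne (hc.eq_one_of_commute hx (fun y hy => ?_) y₀ hy₀)
  have hsqo : (orderOf (x * x)).Coprime p :=
    hxo.coprime_dvd_left (orderOf_dvd_of_pow_eq_one (by
      rw [← pow_two, ← pow_mul, mul_comm, pow_mul, pow_orderOf_eq_one, one_pow]))
  have h1 := hnen x hx hxo
  have h2 := hnen (x * x) (mul_mem hx hx) hsqo
  rw [map_mul] at h2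
  have hue : ρ (a * x * a⁻¹) = ρ x := by
    refine sub_eq_zero_of_sq (p := p) cast_p_eq_zero hxo (hm _ x)
      (by rw [← map_pow, pow_orderOf_eq_one, map_one]) (hcomm1 x hx x hx) ?_
    rw [hu' x, h1, sub_zero, add_sub_cancel_left]
    calc (n * ρ x - ρ x * n) * (n * ρ x - ρ x * n)
        = n * ρ x * n * ρ x - n * (ρ x * ρ x) * n - ρ x * (n * n) * ρ x + ρ x * (n * ρ x * n) := by
          noncomm_ring
      _ = 0 := by rw [h1, h2, hq]; simp
  rw [← hue]
  exact hcomm1 x hx y hy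

theorem inv_eq_self_of_two (hp2 : p = 2) {a : G} (ha : a ∈ A) : a⁻¹ = a := by
  rw [inv_eq_iff_mul_eq_one, ← pow_two, ← hp2]
  exact hc.pow a ha

theorem nn_sq_of_two (hp2 : p = 2) {a : G} (ha : a ∈ A) : nn ρ a * nn ρ a = 0 := by
  have h2 : (2 : Module.End (ZMod p) V) = 0 := by
    have := cast_p_eq_zero (p := p) (V := V)
    have hcast : (p : Module.End (ZMod p) V) = ((2 : ℕ) : Module.End (ZMod p) V) := congrArg _ hp2
    rw [hcast] at this
    exact_mod_cast this
  have ha2 : ρ a * ρ a = 1 := by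
    rw [← map_mul, ← pow_two, ← hp2, hc.pow a ha, map_one]
  calc (ρ a - 1) * (ρ a - 1) = ρ a * ρ a + 1 - 2 * ρ a := by noncomm_ring
    _ = 0 := by rw [ha2, h2, zero_mul, sub_zero, ← two_mul, h2, zero_mul]

/-- For `p = 2` a quadratic four group cannot permute four conjugates of `K` regularly. -/
theorem no_four (hp2 : p = 2) {a c : G} (ha : a ∈ A) (hcA : c ∈ A)
    (hna : a ∉ Subgroup.normalizer (K : Set G)) (hnc : c ∉ Subgroup.normalizer (K : Set G))
    (hnac : a * c ∉ Subgroup.normalizer (K : Set G)) (h0 : nn ρ a * nn ρ c = 0) : False := by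
  have h0' : nn ρ c * nn ρ a = 0 := by rw [(nn_commute ρ (hc.comm c hcA a ha)).eq, h0]
  have hna2 := hc.nn_sq_of_two hp2 ha
  have hnc2 := hc.nn_sq_of_two hp2 hcA
  have hia := hc.inv_eq_self_of_two hp2 ha
  have hic := hc.inv_eq_self_of_two hp2 hcA
  set n := nn ρ a
  set m := nn ρ c
  have hA : ρ a = 1 + n := by simp [n, nn]
  have hC : ρ c = 1 + m := by simp [m, nn]
  obtain ⟨x, hx, hxo, y₀, hy₀, hne⟩ := hc.exists_x
  refine hne (hc.eq_one_of_commute hx (fun y hy => ?_) y₀ hy₀)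
  have hac : a * c ∈ A := mul_mem ha hcA
  have hiac := hc.inv_eq_self_of_two hp2 hac
  have hm' : ∀ g z : G, ρ (g * z * g⁻¹) ^ orderOf z = 1 := fun g z => by
    rw [← map_pow, conj_pow, pow_orderOf_eq_one, mul_one, mul_inv_cancel, map_one]
  have hsum : ∀ z ∈ K, (orderOf z).Coprime p →
      ρ z + ρ (a * z * a⁻¹) + ρ (c * z * c⁻¹) + ρ (a * c * z * (a * c)⁻¹) = 0 := by
    intro z hz hzo
    have e01 : Commute (ρ z) (ρ (a * z * a⁻¹)) := (hc.conj a ha hna z hz z hz).map ρ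
    have e02 : Commute (ρ z) (ρ (c * z * c⁻¹)) := (hc.conj c hcA hnc z hz z hz).map ρ
    have e03 : Commute (ρ z) (ρ (a * c * z * (a * c)⁻¹)) := (hc.conj _ hac hnac z hz z hz).map ρ
    have e12 : Commute (ρ (a * z * a⁻¹)) (ρ (c * z * c⁻¹)) :=
      (hc.commute_conj ha hcA (by rwa [hia]) hz hz).map ρ
    have e13 : Commute (ρ (a * z * a⁻¹)) (ρ (a * c * z * (a * c)⁻¹)) :=
      (hc.commute_conj ha hac (by rwa [inv_mul_cancel_left]) hz hz).map ρ
    have e23 : Commute (ρ (c * z * c⁻¹)) (ρ (a * c * z * (a * c)⁻¹)) :=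
      (hc.commute_conj hcA hac (by rwa [hc.comm a ha c hcA, inv_mul_cancel_left]) hz hz).map ρ
    refine add_four_eq_zero_of_sq (p := p) cast_p_eq_zero hzo
      (by rw [← map_pow, pow_orderOf_eq_one, map_one]) (hm' a z) (hm' c z) (hm' _ z)
      e01 e02 e03 e12 e13 e23 ?_
    have h2 : (2 : Module.End (ZMod p) V) = 0 := by
      have := cast_p_eq_zero (p := p) (V := V)
      have hcast : (p : Module.End (ZMod p) V) = ((2 : ℕ) : Module.End (ZMod p) V) := congrArg _ hp2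
      rw [hcast] at this
      exact_mod_cast this
    have hAC : ρ (a * c) = 1 + n + m := by
      rw [map_mul, hA, hC]
      simp only [mul_add, add_mul, mul_one, one_mul, h0]
      abel
    have hval : ρ z + ρ (a * z * a⁻¹) + ρ (c * z * c⁻¹) + ρ (a * c * z * (a * c)⁻¹) =
        n * ρ z * m + m * ρ z * n := by
      rw [map_conj_eq, map_conj_eq, map_conj_eq, hia, hic, hiac, hAC, hA, hC]
      calc _ = 2 * (2 * ρ z + (n * ρ z + ρ z * n + n * ρ z * n) +
            (m * ρ z + ρ z * m + m * ρ z * m)) + (n * ρ z * m + m * ρ z * n) := by noncomm_ring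
        _ = _ := by rw [h2, zero_mul, zero_add]
    rw [hval]
    simp only [mul_add, add_mul, mul_assoc]
    simp only [← mul_assoc m n, ← mul_assoc n m, ← mul_assoc n n, ← mul_assoc m m, h0, h0', hna2,
      hnc2, zero_mul, mul_zero, add_zero]
  have hxy : (orderOf (y * x * y⁻¹)).Coprime p := by
    rw [show orderOf (y * x * y⁻¹) = orderOf x from (MulAut.conj y).orderOf_eq x]; exact hxo
  have h1 := hsum x hx hxo
  have h2 := hsum (y * x * y⁻¹) (mul_mem (mul_mem hy hx) (inv_mem hy)) hxy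
  have hfix : ∀ g ∈ A, g ∉ Subgroup.normalizer (K : Set G) →
      ρ y * ρ (g * x * g⁻¹) * ρ y⁻¹ = ρ (g * x * g⁻¹) := fun g hg hng => by
    rw [← map_mul, ← map_mul, (hc.conj g hg hng y hy x hx).eq, mul_inv_cancel_right]
  have h3 : ρ y * (ρ x + ρ (a * x * a⁻¹) + ρ (c * x * c⁻¹) + ρ (a * c * x * (a * c)⁻¹)) * ρ y⁻¹ = 0 := by
    rw [h1, mul_zero, zero_mul]
  simp only [mul_add, add_mul, hfix a ha hna, hfix c hcA hnc, hfix _ hac hnac] at h3
  have h4 : ρ y * ρ x * ρ y⁻¹ = ρ x := by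
    rw [← h1] at h3
    exact add_right_cancel (add_right_cancel (add_right_cancel h3))
  show ρ x * ρ y = ρ y * ρ x
  conv_lhs => rw [← h4]
  rw [mul_assoc, ← map_mul ρ y⁻¹ y, inv_mul_cancel, map_one, mul_one]

/-- The product of the conjugates of `x` under a moving `a` is fixed by `a`. -/
theorem orb_conj {a : G} (ha : a ∈ A) (hn : a ∉ Subgroup.normalizer (K : Set G)) {x : G} (hx : x ∈ K) :
    a * orb a p x * a⁻¹ = orb a p x := by
  obtain ⟨q, hq⟩ : ∃ q, p = q + 1 := ⟨p - 1, by have := hp.out.pos; omega⟩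
  have hcm : Commute x (a ^ 1 * orb a q x * (a ^ 1)⁻¹) :=
    commute_orb a q 1 fun k hk hk' => hc.commute_base ha hn hk (by omega) hx hx
  rw [pow_one] at hcm
  have h1 : orb a p x = x * (a * orb a q x * a⁻¹) := by rw [hq]; rfl
  conv_rhs => rw [h1, hcm.eq]
  rw [hq, orb_succ']
  have h2 : a * (a ^ q * x * (a ^ q)⁻¹) * a⁻¹ = x := by
    have h3 : a ^ (q + 1) = 1 := hq ▸ hc.pow a ha
    rw [show a * (a ^ q * x * (a ^ q)⁻¹) * a⁻¹ = a ^ (q + 1) * x * (a ^ (q + 1))⁻¹ by
      simp only [pow_succ']; group, h3]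
    simp
  calc a * (orb a q x * (a ^ q * x * (a ^ q)⁻¹)) * a⁻¹
      = (a * orb a q x * a⁻¹) * (a * (a ^ q * x * (a ^ q)⁻¹) * a⁻¹) := by group
    _ = _ := by rw [h2]

theorem orb_mul {a : G} (ha : a ∈ A) (hn : a ∉ Subgroup.normalizer (K : Set G)) {x y : G}
    (hx : x ∈ K) (hy : y ∈ K) : ∀ n ≤ p, orb a n (x * y) = orb a n x * orb a n y
  | 0, _ => by simp [orb]
  | n + 1, hnp => by
    have hcm : Commute y (a ^ 1 * orb a n x * (a ^ 1)⁻¹) :=
      commute_orb a n 1 fun k hk hk' => hc.commute_base ha hn hk (by omega) hy hx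
    rw [pow_one] at hcm
    simp only [orb, orb_mul ha hn hx hy n (by omega)]
    calc x * y * (a * (orb a n x * orb a n y) * a⁻¹)
        = x * (y * (a * orb a n x * a⁻¹)) * (a * orb a n y * a⁻¹) := by group
      _ = x * ((a * orb a n x * a⁻¹) * y) * (a * orb a n y * a⁻¹) := by rw [hcm.eq]
      _ = _ := by group

theorem conj_orb {a b : G} (ha : a ∈ A) (hb : b ∈ A) (x : G) :
    ∀ n, b * orb a n x * b⁻¹ = orb a n (b * x * b⁻¹)
  | 0 => by simp [orb]
  | n + 1 => by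
    simp only [orb, ← conj_orb ha hb x n]
    have h1 : a * b = b * a := hc.comm a ha b hb
    calc b * (x * (a * orb a n x * a⁻¹)) * b⁻¹
        = (b * x * b⁻¹) * ((b * a) * orb a n x * (b * a)⁻¹) := by group
      _ = (b * x * b⁻¹) * ((a * b) * orb a n x * (a * b)⁻¹) := by rw [h1]
      _ = _ := by group

/-- `a` fixes the range of `ρ X - 1` for `X` the product of the conjugates of `x ∈ K` under `a`. -/
theorem mul_nn_orb {a b : G} (ha : a ∈ A) (hn : a ∉ Subgroup.normalizer (K : Set G)) (hb : b ∈ A)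
    (hbn : b ∈ Subgroup.normalizer (K : Set G)) (h0 : nn ρ a * nn ρ b = 0)
    (hby : ∃ y ∈ K, ρ ⁅b, y⁆ ≠ 1) : ∀ x ∈ K, nn ρ a * nn ρ (orb a p x) = 0 := by
  let H : Subgroup G :=
    { carrier := {g | nn ρ a * nn ρ g = 0}
      one_mem' := by show nn ρ a * nn ρ 1 = 0; rw [nn_one, mul_zero]
      mul_mem' := fun {g h} (hg : nn ρ a * nn ρ g = 0) (hh : nn ρ a * nn ρ h = 0) => by
        show nn ρ a * nn ρ (g * h) = 0
        rw [nn_mul_right, mul_add, ← mul_assoc, hg, hh, zero_mul, add_zero]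
      inv_mem' := fun {g} (hg : nn ρ a * nn ρ g = 0) => by
        show nn ρ a * nn ρ g⁻¹ = 0
        have h1 : nn ρ g⁻¹ = -(nn ρ g * ρ g⁻¹) := by
          simp only [nn, sub_mul, one_mul, ← map_mul, mul_inv_cancel, map_one]; abel
        rw [h1, mul_neg, ← mul_assoc, hg, zero_mul, neg_zero] }
  have horb1 : orb a p (1 : G) = 1 := by
    have h := hc.orb_mul ha hn (one_mem K) (one_mem K) p le_rfl
    rw [mul_one] at h
    exact mul_eq_left.mp h.symm
  let Y : Subgroup G :=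
    { carrier := {y | y ∈ K ∧ orb a p y ∈ H}
      one_mem' := ⟨one_mem K, by rw [horb1]; exact one_mem H⟩
      mul_mem' := fun {g h} hg hh => ⟨mul_mem hg.1 hh.1,
        (hc.orb_mul ha hn hg.1 hh.1 p le_rfl).symm ▸ mul_mem hg.2 hh.2⟩
      inv_mem' := fun {g} hg => ⟨inv_mem hg.1, by
        have h := hc.orb_mul ha hn hg.1 (inv_mem hg.1) p le_rfl
        rw [mul_inv_cancel, horb1] at h
        rw [eq_inv_of_mul_eq_one_right h.symm]
        exact inv_mem hg.2⟩ }
  have hbK : ∀ y ∈ K, ⁅b, y⁆ ∈ K := fun y hy => by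
    rw [commutatorElement_def]
    exact mul_mem (hc.conj_mem hbn hy) (inv_mem hy)
  have hgen : ∀ y ∈ K, ⁅b, y⁆ ∈ Y := by
    intro y hy
    refine ⟨hbK y hy, ?_⟩
    set D := orb a p y
    have haD : Commute a D := by
      have := hc.orb_conj ha hn hy
      exact eq_mul_inv_iff_mul_eq.mp (by rw [this]) |>.symm
    have hbD : D * b * D⁻¹ ∈ H := by
      show nn ρ a * nn ρ (D * b * D⁻¹) = 0
      rw [nn_conj, mul_assoc (ρ D), ← mul_assoc (nn ρ a), 
        ((haD.map ρ).sub_left (Commute.one_left _)).eq, mul_assoc (ρ D), ← mul_assoc (nn ρ a), h0,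
        zero_mul, mul_zero]
    have : orb a p ⁅b, y⁆ = b * (D * b * D⁻¹)⁻¹ := by
      rw [commutatorElement_def, hc.orb_mul ha hn (hc.conj_mem hbn hy) (inv_mem hy) p le_rfl,
        ← hc.conj_orb ha hb y p]
      have h := hc.orb_mul ha hn hy (inv_mem hy) p le_rfl
      rw [mul_inv_cancel, horb1] at h
      rw [eq_inv_of_mul_eq_one_right h.symm]
      simp only [D]
      group
    rw [this]
    exact mul_mem h0 (inv_mem hbD)
  let M := Subgroup.closure {g : G | ∃ y ∈ K, ⁅b, y⁆ = g}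
  have hMY : M ≤ Y := (Subgroup.closure_le _).mpr (by rintro _ ⟨y, hy, rfl⟩; exact hgen y hy)
  have hMn : ∀ y ∈ K, ∀ g ∈ K, g ∈ M → y * g * y⁻¹ ∈ M := by
    intro h hh g hgK hg
    clear hgK
    induction hg using Subgroup.closure_induction with
    | mem c hcm =>
      obtain ⟨y, hy, rfl⟩ := hcm
      have : h * ⁅b, y⁆ * h⁻¹ = ⁅b, h⁆⁻¹ * ⁅b, h * y⁆ := by
        simp only [commutatorElement_def]; group
      rw [this]
      exact mul_mem (inv_mem (Subgroup.subset_closure ⟨h, hh, rfl⟩))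
        (Subgroup.subset_closure ⟨h * y, mul_mem hh hy, rfl⟩)
    | one => simp
    | mul g1 g2 _ _ i1 i2 =>
      rw [show h * (g1 * g2) * h⁻¹ = h * g1 * h⁻¹ * (h * g2 * h⁻¹) by group]
      exact mul_mem i1 i2
    | inv g1 _ i1 =>
      rw [show h * g1⁻¹ * h⁻¹ = (h * g1 * h⁻¹)⁻¹ by group]
      exact inv_mem i1
  obtain ⟨y, hy, z, hz, hyz⟩ : ∃ y ∈ K, ∃ z ∈ K, ¬ Commute ⁅b, y⁆ z := by
    by_contra hcon
    push Not at hcon
    obtain ⟨y, hy, hne⟩ := hby
    have := commute_of_commutator_central hc.qs (fun w hw => hc.conj_mem hbn hw) hcon y hy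
    exact hne (by rw [commutatorElement_eq_one_iff_mul_comm.mpr this.eq, map_one])
  have hKM : K ≤ M := le_of_normalized hc.qs M hMn (hbK y hy)
    (Subgroup.subset_closure ⟨y, hy, rfl⟩) ⟨z, hz, hyz⟩
  exact fun x hx => (hMY (hKM hx)).2

/-- With the hypothesis of `mul_nn_orb`: all conjugates of `x` agree on the range of `ρ X - 1`. -/
theorem conj_mul_nn_orb {a b : G} (ha : a ∈ A) (hn : a ∉ Subgroup.normalizer (K : Set G)) (hb : b ∈ A)
    (hbn : b ∈ Subgroup.normalizer (K : Set G)) (h0 : nn ρ a * nn ρ b = 0)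
    (hby : ∃ y ∈ K, ρ ⁅b, y⁆ ≠ 1) {x : G} (hx : x ∈ K) : ∀ i : ℕ,
    ρ (a ^ i * x * (a ^ i)⁻¹) * nn ρ (orb a p x) = ρ x * nn ρ (orb a p x)
  | 0 => by simp
  | i + 1 => by
    have h1 := hc.mul_nn_orb ha hn hb hbn h0 hby x hx
    set X := orb a p x
    have hfix : ρ a * nn ρ X = nn ρ X := by
      rw [nn, sub_mul, one_mul, sub_eq_zero] at h1
      exact h1
    have hfix' : ρ a⁻¹ * nn ρ X = nn ρ X := by
      conv_lhs => rw [← hfix]
      rw [← mul_assoc, ← map_mul, inv_mul_cancel, map_one, one_mul]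
    have hcX : Commute x X := by
      have := commute_orb a (g := x) p 0 (x := x) (fun k _ hk => by
        rcases Nat.eq_zero_or_pos k with rfl | h
        · simp
        · exact hc.commute_base ha hn h (by omega) hx hx)
      simpa using this
    have hxc : ρ x * nn ρ X = nn ρ X * ρ x :=
      ((hcX.map ρ).sub_right (Commute.one_right _)).eq
    have : a ^ (i + 1) * x * (a ^ (i + 1))⁻¹ = a * (a ^ i * x * (a ^ i)⁻¹) * a⁻¹ := by
      simp only [pow_succ']; group
    rw [this, map_conj_eq, mul_assoc, hfix', mul_assoc,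
      conj_mul_nn_orb ha hn hb hbn h0 hby hx i, hxc, ← mul_assoc, hfix]

/-- For `p = 2`: `ρ x + ρ x⁻¹` is the same for `x` and its conjugate. -/
theorem trace_eq (hp2 : p = 2) {a b : G} (ha : a ∈ A) (hn : a ∉ Subgroup.normalizer (K : Set G))
    (hb : b ∈ A) (hbn : b ∈ Subgroup.normalizer (K : Set G)) (h0 : nn ρ a * nn ρ b = 0)
    (hby : ∃ y ∈ K, ρ ⁅b, y⁆ ≠ 1) {x : G} (hx : x ∈ K) :
    ρ x + ρ x⁻¹ = ρ (a * x * a⁻¹) + ρ (a * x * a⁻¹)⁻¹ := by
  have h := hc.conj_mul_nn_orb ha hn hb hbn h0 hby hx 1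
  rw [pow_one] at h
  have hX : orb a p x = x * (a * x * a⁻¹) := by
    rw [congrArg (fun n => orb a n x) hp2]; simp [orb]
  rw [hX] at h
  set x' := a * x * a⁻¹
  have hcm : Commute x x' := hc.conj a ha hn x hx x hx
  simp only [nn, mul_sub, mul_one, ← map_mul] at h
  have h2 := congrArg (fun T => ρ (x⁻¹ * x'⁻¹) * T) h
  simp only [mul_sub, ← map_mul] at h2
  have e1 : x⁻¹ * x'⁻¹ * (x' * (x * x')) = x' := by group
  have e2 : x⁻¹ * x'⁻¹ * x' = x⁻¹ := by group
  have e3 : x⁻¹ * x'⁻¹ * (x * (x * x')) = x := by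
    rw [hcm.inv_inv.eq]
    calc x'⁻¹ * x⁻¹ * (x * (x * x')) = x'⁻¹ * (x * x') := by group
      _ = x'⁻¹ * (x' * x) := by rw [hcm.eq]
      _ = x := by group
  have e4 : x⁻¹ * x'⁻¹ * x = x'⁻¹ := by
    rw [hcm.inv_inv.eq]; group
  rw [e1, e2, e3, e4] at h2
  have h2' : ρ x' - ρ x⁻¹ = ρ x - ρ x'⁻¹ := h2
  calc ρ x + ρ x⁻¹ = (ρ x - ρ x'⁻¹) + (ρ x⁻¹ + ρ x'⁻¹) := by abel
    _ = (ρ x' - ρ x⁻¹) + (ρ x⁻¹ + ρ x'⁻¹) := by rw [h2']
    _ = _ := by abel

/-- For odd `p`, an element moving `K` cannot annihilate `[V, b]` for `b` acting nontrivially on `K`. -/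
theorem false_of_odd (hp2 : p ≠ 2) {a b : G} (ha : a ∈ A) (hn : a ∉ Subgroup.normalizer (K : Set G))
    (hb : b ∈ A) (hbn : b ∈ Subgroup.normalizer (K : Set G)) (h0 : nn ρ a * nn ρ b = 0)
    (hby : ∃ y ∈ K, ρ ⁅b, y⁆ ≠ 1) : False := by
  have hp3 : 2 < p := lt_of_le_of_ne hp.out.two_le (Ne.symm hp2)
  obtain ⟨x, hx, hxo, hxy⟩ := hc.exists_x
  obtain ⟨w₀, hw₀, v₀, hv₀, hwv⟩ := hc.exists_commutator_noncentral hx hxy
  set X := orb a p x with hX
  let xc : ℕ → G := fun i => a ^ i * x * (a ^ i)⁻¹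
  have hP1 : ∀ i, ρ (xc i) * nn ρ X = ρ x * nn ρ X :=
    hc.conj_mul_nn_orb ha hn hb hbn h0 hby hx
  obtain ⟨q, hq⟩ : ∃ q, p = q + 1 := ⟨p - 1, by omega⟩
  set R := a * orb a q x * a⁻¹ with hR
  have hXR : X = x * R := by rw [hX, hR, hq]; rfl
  have hRc : ∀ y ∈ K, Commute y R := by
    intro y hy
    have := commute_orb a q 1 (g := y) (x := x) fun k hk hk' =>
      hc.commute_base ha hn hk (by omega) hy hx
    rwa [pow_one] at this
  have hcc : ∀ i, i < p → ∀ k, k < p → Commute (xc i) (xc k) := by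
    intro i hi k hk
    rcases eq_or_ne i k with rfl | h
    · exact Commute.refl _
    · exact hc.commute_pow_conj ha hn h hi hk hx hx
  have hcX : ∀ i, i < p → Commute (xc i) X := by
    intro i hi
    have := commute_orb a (g := xc i) (x := x) p 0 (fun k _ hk => hcc i hi k (by omega))
    simpa using this
  -- step 1: the conjugates agree on `[V, K]`
  have hagree : ∀ i j, 1 ≤ i → i < p → 1 ≤ j → j < p → ∀ y ∈ K,
      ρ (xc i) * nn ρ y = ρ (xc j) * nn ρ y := by
    intro i j hi hi' hj hj' y hy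
    set z := (xc i)⁻¹ * xc j with hz
    have hyz : ∀ y ∈ K, Commute y z := fun y hy =>
      ((hc.commute_base ha hn hi hi' hy hx).inv_right).mul_right (hc.commute_base ha hn hj hj' hy hx)
    have hzX : ρ z * nn ρ X = nn ρ X := by
      rw [hz, map_mul, mul_assoc, hP1 j, ← hP1 i, ← mul_assoc, ← map_mul, inv_mul_cancel, map_one,
        one_mul]
    have hXz : ρ X * nn ρ z = nn ρ z := by
      have hc' : Commute X z := ((hcX i hi').symm.inv_right).mul_right (hcX j hj').symm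
      have h1 : nn ρ z * nn ρ X = 0 := by rw [nn, sub_mul, one_mul, hzX, sub_self]
      rw [← (nn_commute ρ hc').eq, nn, sub_mul, one_mul, sub_eq_zero] at h1
      exact h1
    have hxz : ρ R⁻¹ * nn ρ z = ρ x * nn ρ z := by
      conv_lhs => rw [← hXz]
      rw [← mul_assoc, ← map_mul, hXR, (hRc x hx).eq, inv_mul_cancel_left]
    have hS : K ≤ fixOp ρ (nn ρ z) := by
      refine le_of_normalized hc.qs _ (fun y hy g _ hg => ?_)
        (show ⁅x⁻¹, w₀⁆ ∈ K by
          rw [commutatorElement_def]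
          exact mul_mem (mul_mem (mul_mem (inv_mem hx) hw₀) (inv_mem (inv_mem hx))) (inv_mem hw₀))
        ?_ ⟨v₀, hv₀, hwv⟩
      · show ρ (y * g * y⁻¹) * nn ρ z = nn ρ z
        have h1 : ∀ y ∈ K, Commute (ρ y) (nn ρ z) := fun y hy =>
          ((hyz y hy).map ρ).sub_right (Commute.one_right _)
        rw [map_mul, mul_assoc, (h1 _ (inv_mem hy)).eq, map_mul, mul_assoc (ρ y), ← mul_assoc (ρ g),
          show ρ g * nn ρ z = nn ρ z from hg, ← (h1 _ (inv_mem hy)).eq, ← mul_assoc, ← map_mul,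
          mul_inv_cancel, map_one, one_mul]
      · show ρ ⁅x⁻¹, w₀⁆ * nn ρ z = nn ρ z
        have h1 : Commute (ρ w₀) (nn ρ z) := ((hyz _ hw₀).map ρ).sub_right (Commute.one_right _)
        have h2 : ρ (w₀ * x) * nn ρ z = ρ (x * w₀) * nn ρ z := by
          rw [map_mul, mul_assoc, ← hxz, ← mul_assoc, ← map_mul, (hRc w₀ hw₀).inv_right.eq, map_mul,
            mul_assoc, h1.eq, ← mul_assoc, hxz, mul_assoc, ← h1.eq, ← mul_assoc, ← map_mul]
        -- ⁅x⁻¹, w⁆ = x⁻¹ w x w⁻¹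
        have h3 : ⁅x⁻¹, w₀⁆ = x⁻¹ * (w₀ * x) * w₀⁻¹ := by
          rw [commutatorElement_def, inv_inv]; group
        have h4 : Commute (ρ w₀⁻¹) (nn ρ z) :=
          ((hyz _ (inv_mem hw₀)).map ρ).sub_right (Commute.one_right _)
        rw [h3, map_mul, map_mul, mul_assoc, h4.eq, mul_assoc (ρ x⁻¹), ← mul_assoc (ρ (w₀ * x)), h2,
          ← mul_assoc, ← mul_assoc, ← map_mul ρ x⁻¹, inv_mul_cancel_left, mul_assoc, ← h4.eq,
          ← mul_assoc, ← map_mul, mul_inv_cancel, map_one, one_mul]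
    have h1 : nn ρ z * nn ρ y = 0 := by
      rw [← (nn_commute ρ (hyz y hy)).eq, nn, sub_mul, one_mul, sub_eq_zero]
      exact hS hy
    rw [nn, sub_mul, one_mul, sub_eq_zero] at h1
    conv_lhs => rw [← h1]
    rw [← mul_assoc, ← map_mul, hz, mul_inv_cancel_left]
  -- step 2: the other conjugates of `K` are trivial on `[V, K]`
  have htriv : ∀ i, 1 ≤ i → i < p → ∀ y ∈ K, a ^ i * x * (a ^ i)⁻¹ ∈ fixOp ρ (nn ρ y) := by
    intro i hi hi' y hy
    obtain ⟨j, hj, hj', hji⟩ : ∃ j, 1 ≤ j ∧ j < p ∧ j ≠ i := by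
      rcases eq_or_ne i 1 with rfl | h
      · exact ⟨2, by omega, hp3, by omega⟩
      · exact ⟨1, le_rfl, by omega, Ne.symm h⟩
    let conjHom := (MulAut.conj (a ^ i)).toMonoidHom
    let S : Subgroup G := (fixOp ρ (nn ρ y)).comap conjHom
    refine le_of_normalized hc.qs S (fun h hh g _ hg => ?_) 
        (show ⁅x⁻¹, w₀⁆ ∈ K by
          rw [commutatorElement_def]
          exact mul_mem (mul_mem (mul_mem (inv_mem hx) hw₀) (inv_mem (inv_mem hx))) (inv_mem hw₀))
        ?_ ⟨v₀, hv₀, hwv⟩ hx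
    · have h1 : ∀ h ∈ K, Commute (ρ (a ^ i * h * (a ^ i)⁻¹)) (nn ρ y) := fun h hh =>
        (((hc.commute_base ha hn hi hi' hy hh).symm).map ρ).sub_right (Commute.one_right _)
      show ρ (a ^ i * (h * g * h⁻¹) * (a ^ i)⁻¹) * nn ρ y = nn ρ y
      have hg' : ρ (a ^ i * g * (a ^ i)⁻¹) * nn ρ y = nn ρ y := hg
      rw [show a ^ i * (h * g * h⁻¹) * (a ^ i)⁻¹ = (a ^ i * h * (a ^ i)⁻¹) *
        (a ^ i * g * (a ^ i)⁻¹) * (a ^ i * h⁻¹ * (a ^ i)⁻¹) by group, map_mul, mul_assoc,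
        (h1 _ (inv_mem hh)).eq, map_mul, mul_assoc, ← mul_assoc (ρ (a ^ i * g * (a ^ i)⁻¹)), hg',
        ← (h1 _ (inv_mem hh)).eq, ← mul_assoc, ← map_mul]
      simp [mul_assoc]
    · show ρ (a ^ i * ⁅x⁻¹, w₀⁆ * (a ^ i)⁻¹) * nn ρ y = nn ρ y
      have hg : a ^ i * ⁅x⁻¹, w₀⁆ * (a ^ i)⁻¹ =
          (xc i)⁻¹ * ((a ^ i * w₀ * (a ^ i)⁻¹) * (xc i * (a ^ i * w₀ * (a ^ i)⁻¹)⁻¹)) := by
        simp only [xc, commutatorElement_def]; group
      set w := a ^ i * w₀ * (a ^ i)⁻¹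
      have h1 : Commute (ρ w⁻¹) (nn ρ y) :=
        ((((hc.commute_base ha hn hi hi' hy hw₀).symm).inv_left).map ρ).sub_right
          (Commute.one_right _)
      have h2 : Commute (ρ (xc j)) (ρ w⁻¹) :=
        ((hc.commute_pow_conj ha hn hji hj' hi' hx hw₀).inv_right).map ρ
      have hij := hagree i j hi hi' hj hj' y hy
      have h5 : ρ (xc i * w⁻¹) * nn ρ y = ρ (w⁻¹ * xc i) * nn ρ y := by
        rw [map_mul, mul_assoc, h1.eq, ← mul_assoc, hij, mul_assoc, ← h1.eq, ← mul_assoc, h2.eq,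
          mul_assoc, ← hij, ← mul_assoc, ← map_mul]
      rw [hg, map_mul, mul_assoc, map_mul, mul_assoc, h5, ← mul_assoc (ρ w), ← map_mul,
        ← mul_assoc, ← map_mul]
      simp
  -- step 3: `x` has order dividing a power of `p` on `V`
  have hR1 : ∀ y ∈ K, ρ R * nn ρ y = nn ρ y := by
    intro y hy
    have h := orb_mem_fixOp (ρ := ρ) a q 1 (x := x) (T := nn ρ y)
      fun k hk hk' => htriv k hk (by omega) y hy
    rw [pow_one] at h
    exact h
  have hXx : nn ρ X * nn ρ x = nn ρ x * nn ρ x := by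
    have : ρ X * nn ρ x = ρ x * nn ρ x := by rw [hXR, map_mul, mul_assoc, hR1 x hx]
    simp only [nn, sub_mul, one_mul] at this ⊢
    rw [this]
  have hx1 : ρ x * (nn ρ X * nn ρ x) = nn ρ X * nn ρ x := by
    have h1 := hP1 1
    have h2 : ρ (xc 1) * nn ρ x = nn ρ x := htriv 1 le_rfl (by omega) x hx
    have h3 : Commute X x := by
      have := commute_orb a (g := x) p 0 (x := x) (fun k _ hk => by
        rcases Nat.eq_zero_or_pos k with rfl | h
        · simp
        · exact hc.commute_base ha hn h (by omega) hx hx)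
      simpa using this.symm
    rw [← mul_assoc, ← h1, mul_assoc, (nn_commute ρ h3).eq, ← mul_assoc, h2]
  rw [hXx] at hx1
  obtain ⟨y, hy, hne⟩ := hxy
  refine hne ?_
  have h3 : (ρ x - 1) ^ 3 = 0 := by
    have : (ρ x - 1) ^ 3 = ρ x * (nn ρ x * nn ρ x) - nn ρ x * nn ρ x := by
      simp only [nn]; noncomm_ring
    rw [this, hx1, sub_self]
  have h4 : ρ x = 1 :=
    eq_one_of_sub_one_pow (p := p) cast_p_eq_zero hxo
      (by rw [← map_pow, pow_orderOf_eq_one, map_one]) h3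
  exact hc.eq_one_of_commute hx (fun z _ => by rw [h4]; exact Commute.one_left _) y hy

end Ctx

end CfsgLib.LocEven.PGV
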