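import Cfsg.Agent.Lib.LocEven.PGV.Main

/-!
# The `P(G,V)` theorem by induction on the module
-/

namespace CfsgLib.LocEven.PGV

universe u v

theorem le_normalizer_aux (p : ℕ) [hp : Fact p.Prime] : ∀ (n : ℕ) (G : Type u) (V : Type v)
    [Group G] [Finite G] [AddCommGroup V] [Finite V] [Module (ZMod p) V]
    (ρ : Representation (ZMod p) G V) (A K : Subgroup G), Nat.card V = n →
    Ctx ρ A K → IsBest ρ A → A ≤ Subgroup.normalizer (K : Set G) := by
  intro n
  induction n using Nat.strong_induction_on with
  | _ n ih =>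
    intro G V _ _ _ _ _ ρ A K hn hc hbest
    by_contra hnot
    refine Bad.false_of_bad (ρ := ρ) (A := A) (K := K)
      { toCtx := hc, best := hbest, notNorm := hnot, minimal := ?_ }
    intro W hWA hWK hne
    by_contra hWtop
    apply hnot
    -- the stabiliser of `W`
    let G' : Subgroup G :=
      { carrier := {g | (∀ w ∈ W, ρ g w ∈ W) ∧ ∀ w ∈ W, ρ g⁻¹ w ∈ W}
        one_mem' := by simp
        mul_mem' := fun {g h} hg hh => ⟨fun w hw => by
            rw [map_mul, Module.End.mul_apply]; exact hg.1 _ (hh.1 w hw),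
          fun w hw => by
            rw [mul_inv_rev, map_mul, Module.End.mul_apply]; exact hh.2 _ (hg.2 w hw)⟩
        inv_mem' := fun {g} hg => ⟨hg.2, by rw [inv_inv]; exact hg.1⟩ }
    have hAG : A ≤ G' := fun a ha => ⟨hWA a ha, hWA _ (inv_mem ha)⟩
    have hKG : K ≤ G' := fun a ha => ⟨hWK a ha, hWK _ (inv_mem ha)⟩
    let ρ' : Representation (ZMod p) G' W :=
      { toFun := fun g => (ρ g).restrict g.2.1
        map_one' := by ext w; simp
        map_mul' := fun g h => by ext w; simp }
    have hρ' : ∀ (g : G') (w : W), ((ρ' g w : W) : V) = ρ g w := fun g w => rfl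
    set A' := A.subgroupOf G' with hA'
    set K' := K.subgroupOf G' with hK'
    have hNiff : ∀ a : G', a ∈ Subgroup.normalizer (K' : Set G') ↔
        (a : G) ∈ Subgroup.normalizer (K : Set G) := by
      intro a
      rw [Subgroup.mem_normalizer_iff, Subgroup.mem_normalizer_iff]
      constructor
      · intro h g
        constructor
        · intro hg
          exact (h ⟨g, hKG hg⟩).mp hg
        · intro hg
          have hgG : g ∈ G' := by
            have := mul_mem (mul_mem (inv_mem a.2) (hKG hg)) a.2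
            simpa [mul_assoc] using this
          exact (h ⟨g, hgG⟩).mpr hg
      · intro h g
        exact h g
    have hc' : Ctx ρ' A' K' :=
      { comm := fun a ha b hb => Subtype.ext (hc.comm a ha b hb).eq
        pow := fun a ha => Subtype.ext (hc.pow a ha)
        qs := (CfsgLib.Components.quasisimple_congr (Subgroup.subgroupOfEquivOfLe hKG)).mpr hc.qs
        conj := fun a ha hna x hx y hy =>
          Subtype.ext (hc.conj a ha (fun h => hna ((hNiff a).mpr h)) x hx y hy).eq
        nontriv := by
          obtain ⟨k, hk, w, hw, hkw⟩ := hne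
          refine ⟨⟨k, hKG hk⟩, hk, fun h => hkw ?_⟩
          have := congrArg Subtype.val (LinearMap.congr_fun h ⟨w, hw⟩)
          exact this }
    have hfix : ∀ B : Subgroup G', Nat.card (fix ρ' B) =
        Nat.card ↥(fix ρ (B.map G'.subtype) ⊓ W) := by
      intro B
      refine Nat.card_congr
        { toFun := fun w => ⟨(w.1 : V), ?_, w.1.2⟩
          invFun := fun v => ⟨⟨v, v.2.2⟩, fun b hb => Subtype.ext (v.2.1 b ⟨b, hb, rfl⟩)⟩
          left_inv := fun _ => rfl
          right_inv := fun _ => rfl }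
      rintro _ ⟨b, hb, rfl⟩
      exact congrArg Subtype.val (w.2 b hb)
    have hbest' : IsBest ρ' A' := by
      intro B hB
      have hmap : A'.map G'.subtype = A := Subgroup.map_subgroupOf_eq_of_le hAG
      have hBA : B.map G'.subtype ≤ A := hmap ▸ Subgroup.map_mono hB
      rw [hfix, hfix, hmap, ← Subgroup.card_subtype G' B, ← Subgroup.card_subtype G' A', hmap]
      set B0 := B.map G'.subtype
      have h1 := card_sup_le (fix ρ A) (fix ρ B0 ⊓ W)
      have h2 : fix ρ A ⊓ (fix ρ B0 ⊓ W) = fix ρ A ⊓ W := by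
        rw [← inf_assoc, inf_eq_left.mpr (fix_anti ρ hBA)]
      have h3 : Nat.card ↥(fix ρ A ⊔ (fix ρ B0 ⊓ W)) ≤ Nat.card (fix ρ B0) :=
        Nat.card_le_card_of_injective _ (Submodule.inclusion_injective
          (sup_le (fix_anti ρ hBA) inf_le_left))
      rw [h2] at h1
      have h4 := hbest B0 hBA
      have hpos : 0 < Nat.card (fix ρ A) := Nat.card_pos
      refine Nat.le_of_mul_le_mul_left ?_ hpos
      calc Nat.card (fix ρ A) * (Nat.card B0 * Nat.card ↥(fix ρ B0 ⊓ W))
          = Nat.card B0 * (Nat.card (fix ρ A) * Nat.card ↥(fix ρ B0 ⊓ W)) := by ring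
        _ ≤ Nat.card B0 * (Nat.card ↥(fix ρ A ⊓ W) * Nat.card (fix ρ B0)) :=
            Nat.mul_le_mul_left _ (h1.trans (Nat.mul_le_mul_left _ h3))
        _ = Nat.card ↥(fix ρ A ⊓ W) * (Nat.card B0 * Nat.card (fix ρ B0)) := by ring
        _ ≤ Nat.card ↥(fix ρ A ⊓ W) * (Nat.card A * Nat.card (fix ρ A)) := Nat.mul_le_mul_left _ h4
        _ = _ := by ring
    have hlt : Nat.card W < n := by
      rw [← hn]
      rcases lt_or_eq_of_le (Nat.card_le_card_of_injective _ W.subtype_injective) with h | h
      · exact h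
      · refine absurd ?_ hWtop
        exact SetLike.coe_injective (Set.eq_of_subset_of_ncard_le (Set.subset_univ _)
          (by rw [← Nat.card_coe_set_eq, ← Nat.card_coe_set_eq, Submodule.top_coe, Nat.card_univ]; exact h.ge) (Set.toFinite _))
    intro a ha
    exact (hNiff ⟨a, hAG ha⟩).mp (ih _ hlt G' W ρ' A' K' rfl hc' hbest' ha)

/-- The `P(G,V)` theorem. -/
theorem le_normalizer {p : ℕ} [Fact p.Prime] {G : Type u} {V : Type v} [Group G] [Finite G]
    [AddCommGroup V] [Finite V] [Module (ZMod p) V] {ρ : Representation (ZMod p) G V}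
    {A K : Subgroup G} (hc : Ctx ρ A K) (hbest : IsBest ρ A) :
    A ≤ Subgroup.normalizer (K : Set G) :=
  le_normalizer_aux p _ G V ρ A K rfl hc hbest

end CfsgLib.LocEven.PGV
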